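import Groth.Agent.L07.RelAmp.Poly

/-!
Norms of sections congruent to sections of the target along a closed subset.
-/

set_option autoImplicit false
set_option backward.isDefEq.respectTransparency false
set_option backward.isDefEq.respectTransparency.types false
set_option linter.style.haveILetI false
universe u

open CategoryTheory CategoryTheory.Limits AlgebraicGeometry TopologicalSpace Opposite

noncomputable section

namespace Groth.L07.RelAmp

open Groth.L18.Frame (rs ro rs_rs rs_self rs_smul ro_ro ro_self ro_mul IsFrame pull pull_rs pull_smul)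
open Groth.L18.NormFree Groth.L18.NormMixed
open Groth.L18.NormDesc (pf pf_rs pf_smul isFrame_pf)
open Groth.L18.GenLoc Groth.L18.Ample

variable {X Y : Scheme.{u}} {π : X ⟶ Y}

theorem isUnit_iff_of_sub_mem {R : Type*} [CommRing R] [IsLocalRing R] {a b : R}
    (h : a - b ∈ IsLocalRing.maximalIdeal R) : IsUnit a ↔ IsUnit b := by
  rw [← IsLocalRing.notMem_maximalIdeal, ← IsLocalRing.notMem_maximalIdeal,
    ← Ideal.add_mem_iff_left (IsLocalRing.maximalIdeal R) h (a := b), add_sub_cancel]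

/-- A point is normal or has a basis of the direct image near it. -/
def IsGoodPt (π : X ⟶ Y) (y : Y) : Prop :=
  (IsDomain (Y.presheaf.stalk y) ∧ IsIntegrallyClosed (Y.presheaf.stalk y)) ∨
    ∃ (V : Y.Opens) (k : ℕ) (d : Fin k → Γ(X, π ⁻¹ᵁ V)), y ∈ V ∧ IsGoodBasis π d

theorem exists_norm_loc [IsNoetherian Y] [IsReduced Y] [IsFinite π] (G : GenBases π) {y : Y} (hy : IsGoodPt π y)
    {U : Y.Opens} (s : Γ(X, π ⁻¹ᵁ U)) (hyU : y ∈ U) :
    ∃ (O : Y.Opens) (h : O ≤ U) (a : Γ(Y, O)), y ∈ O ∧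
      IsNorm π G.m O (ro (pre (π := π) h) s) a ∧
      ∀ x ∈ closure (π ⁻¹' genericPoints Y), π x = y → y ∈ Y.basicOpen a → x ∈ X.basicOpen s := by
  have hm : ∀ (V : Y.Opens) (n : ℕ) (c : Fin n → Γ(X, π ⁻¹ᵁ V)), IsGoodBasis π c → (V : Set Y).Nonempty →
      0 < G.m / n := fun V n c hc hV => G.div_pos hc hV
  rcases hy with ⟨h1, h2⟩ | ⟨V, k, d, hyV, hd⟩
  · exact exists_norm_normal G.m hm s hyU
  · obtain ⟨O, h, a, hyO, ha, hmem⟩ := exists_norm_free G.m hm s hyU hyV hd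
    exact ⟨O, h, a, hyO, ha, fun x _ => hmem x⟩

theorem IsNorm.mul {m : ℕ} {U : Y.Opens} {s t : Γ(X, π ⁻¹ᵁ U)} {a b : Γ(Y, U)} (ha : IsNorm π m U s a)
    (hb : IsNorm π m U t b) : IsNorm π m U (s * t) (a * b) := fun V h n c hc => by
  rw [ro_mul, ro_mul, map_mul, mul_pow, ha V h n c hc, hb V h n c hc]

theorem isNorm_one (m : ℕ) (U : Y.Opens) : IsNorm π m U 1 1 := fun V h n c hc => by
  rw [show ro h (1 : Γ(Y, U)) = 1 from map_one _, show ro _ (1 : Γ(X, π ⁻¹ᵁ U)) = 1 from map_one _, map_one, one_pow]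

theorem isNorm_app (G : GenBases π) (U : Y.Opens) (g : Γ(Y, U)) :
    IsNorm π G.m U (π.app U g) (g ^ G.m) := fun V h n c hc => by
  rw [show ro h (g ^ G.m) = ro h g ^ G.m from map_pow _ _ _, ← app_ro h g, nrmHom_app hc le_rfl, ← pow_mul]
  rcases (V : Set Y).eq_empty_or_nonempty with he | he
  · obtain rfl : V = ⊥ := Opens.ext he
    exact Subsingleton.elim _ _
  · rw [Nat.mul_div_cancel' (G.dvd V n c hc he).2]

theorem exists_generators [IsFinite π] {W : Y.Opens} (hW : IsAffineOpen W) :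
    ∃ (r : ℕ) (x : Fin r → Γ(X, π ⁻¹ᵁ W)), ∀ z, ∃ v : Fin r → Γ(Y, W), z = ∑ i, π.app W (v i) * x i := by
  letI := (π.app W).hom.toAlgebra
  haveI : Module.Finite Γ(Y, W) Γ(X, π ⁻¹ᵁ W) := IsFinite.finite_app π W hW
  obtain ⟨r, x, hx⟩ := Module.Finite.exists_fin (R := Γ(Y, W)) (M := Γ(X, π ⁻¹ᵁ W))
  refine ⟨r, x, fun z => ?_⟩
  obtain ⟨v, hv⟩ := Submodule.mem_span_range_iff_exists_fun Γ(Y, W) |>.1 (hx ▸ Submodule.mem_top : z ∈ _)
  exact ⟨v, by rw [← hv]; simp only [Algebra.smul_def]; rfl⟩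

/-- One exponent for a finite family of affine opens. -/
theorem exists_uniform [IsNoetherian Y] [IsReduced Y] [IsFinite π] (G : GenBases π) (Z : Closeds Y)
    (H : ∀ y : Y, y ∉ Z → IsGoodPt π y) {ι : Type*} [Finite ι] (W : ι → Y.Opens) (hW : ∀ i, IsAffineOpen (W i)) :
    ∃ M, ∀ i (a : Γ(Y, W i)) (b : Γ(X, π ⁻¹ᵁ W i)),
      b - π.app (W i) a ∈
          (((Scheme.IdealSheafData.vanishingIdeal Z).ideal ⟨W i, hW i⟩) ^ (M + 1)).map (π.app (W i)).hom →
        ∃ c, IsNorm π G.m (W i) b c ∧ c - a ^ G.m ∈ (Scheme.IdealSheafData.vanishingIdeal Z).ideal ⟨W i, hW i⟩ := by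
  classical
  haveI := Fintype.ofFinite ι
  choose r x hx using fun i => exists_generators (π := π) (hW i)
  have hM : ∀ i, ∃ M, (Scheme.IdealSheafData.vanishingIdeal Z).ideal ⟨W i, hW i⟩ ^ M ≤ extIdeal (x i) G := by
    intro i
    refine exists_pow_le_extIdeal (x i) G (hW i) _ fun j hj y hyj => H y fun hyZ => ?_
    have hyW : y ∈ W i := Y.basicOpen_le j hyj
    have h1 : y ∈ (Scheme.IdealSheafData.vanishingIdeal Z).support := by
      rw [← SetLike.mem_coe, Scheme.IdealSheafData.coe_support_vanishingIdeal]; exact hyZ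
    rw [Scheme.IdealSheafData.mem_support_iff_of_mem (U := ⟨W i, hW i⟩) hyW, Scheme.mem_zeroLocus_iff] at h1
    exact h1 j hj hyj
  choose M hM using hM
  refine ⟨Finset.univ.sup M, fun i a b hb => ?_⟩
  have hle : M i ≤ Finset.univ.sup M := Finset.le_sup (Finset.mem_univ i)
  obtain ⟨v, hv, e⟩ : ∃ v : Fin (r i) → Γ(Y, W i),
      (∀ k, v k ∈ (Scheme.IdealSheafData.vanishingIdeal Z).ideal ⟨W i, hW i⟩ ^ (M i + 1)) ∧
      b - π.app (W i) a = ∑ k, π.app (W i) (v k) * x i k := by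
    have hb' := Ideal.map_mono (Ideal.pow_le_pow_right (by omega : M i + 1 ≤ Finset.univ.sup M + 1)) hb
    generalize b - π.app (W i) a = z₀ at hb' ⊢
    induction hb' using Submodule.span_induction with
    | mem z hz =>
      obtain ⟨s, hs, rfl⟩ := hz
      obtain ⟨w, hw⟩ := hx i 1
      refine ⟨fun k => s * w k, fun k => Ideal.mul_mem_right _ _ hs, ?_⟩
      simp only [map_mul, mul_assoc, ← Finset.mul_sum, ← hw, mul_one]
    | zero => exact ⟨0, fun k => Ideal.zero_mem _, by simp⟩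
    | add z z' _ _ hz hz' =>
      obtain ⟨v, hv, rfl⟩ := hz
      obtain ⟨v', hv', rfl⟩ := hz'
      exact ⟨v + v', fun k => Ideal.add_mem _ (hv k) (hv' k), by simp [add_mul, Finset.sum_add_distrib]⟩
    | smul t z _ hz =>
      obtain ⟨v, hv, rfl⟩ := hz
      choose w hw using fun k => hx i (t * x i k)
      refine ⟨fun l => ∑ k, v k * w k l, fun l => Ideal.sum_mem _ fun k _ => Ideal.mul_mem_right _ _ (hv k), ?_⟩
      simp only [smul_eq_mul, Finset.mul_sum, map_sum, map_mul, Finset.sum_mul]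
      rw [Finset.sum_comm]
      refine Finset.sum_congr rfl fun k _ => ?_
      rw [show t * (π.app (W i) (v k) * x i k) = π.app (W i) (v k) * (t * x i k) by ring, hw k, Finset.mul_sum]
      exact Finset.sum_congr rfl fun l _ => by ring
  obtain ⟨c, hc, hc'⟩ := exists_norm_of_congr (x i) G (hM i) a v hv
  rw [← e, add_sub_cancel] at hc
  exact ⟨c, hc, hc'⟩

/-- The norm section. -/
theorem exists_normSec_congr [IsNoetherian Y] [IsReduced Y] [IsFinite π] [Surjective π] (G : GenBases π)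
    (Z : Closeds Y) (H : ∀ y : Y, y ∉ Z → IsGoodPt π y) {ι : Type*} (W : ι → Y.Opens)
    (hW : ∀ i, IsAffineOpen (W i)) (hcov : ∀ y, ∃ i, y ∈ W i) {M : ℕ}
    (hM : ∀ i (a : Γ(Y, W i)) (b : Γ(X, π ⁻¹ᵁ W i)),
      b - π.app (W i) a ∈
          (((Scheme.IdealSheafData.vanishingIdeal Z).ideal ⟨W i, hW i⟩) ^ (M + 1)).map (π.app (W i)).hom →
        ∃ c, IsNorm π G.m (W i) b c ∧ c - a ^ G.m ∈ (Scheme.IdealSheafData.vanishingIdeal Z).ideal ⟨W i, hW i⟩)
    {Q : Y.Modules} (e : ∀ i, Γ(Q, W i)) (he : ∀ i, IsFrame Q (W i) (e i))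
    (s : Coh.structureModule X ⟶ (Scheme.Modules.pullback π).obj Q)
    (a : ∀ i, Γ(Y, W i)) (b : ∀ i, Γ(X, π ⁻¹ᵁ W i))
    (hb : ∀ i, b i • pull π Q (W i) (e i) = rs ((Scheme.Modules.pullback π).obj Q) le_top (secOf s))
    (hab : ∀ i, b i - π.app (W i) (a i) ∈
      (((Scheme.IdealSheafData.vanishingIdeal Z).ideal ⟨W i, hW i⟩) ^ (M + 1)).map (π.app (W i)).hom) :
    ∃ σ : Coh.structureModule Y ⟶ CohB1.tensorPow Q G.m,
      (∀ y : Y, (∀ x, π x = y → x ∈ CohB1.genLocus _ s) → y ∈ CohB1.genLocus _ σ) ∧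
        ∀ x ∈ closure (π ⁻¹' genericPoints Y), π x ∈ CohB1.genLocus _ σ → x ∈ CohB1.genLocus _ s := by
  choose c hc hca using fun i => hM i (a i) (b i) (hab i)
  let τ : ∀ i, Γ(CohB1.tensorPow Q G.m, W i) := fun i => c i • pf (e i) G.m
  obtain ⟨σ, hσ, -⟩ := TopCat.Sheaf.existsUnique_gluing'
    (⟨(CohB1.tensorPow Q G.m).presheaf, (CohB1.tensorPow Q G.m).isSheaf⟩ : TopCat.Sheaf Ab Y.toTopCat) W ⊤
    (fun i => homOfLE le_top) (fun y _ => Opens.mem_iSup.2 (hcov y)) τ fun i l => by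
      show rs _ (inf_le_left : W i ⊓ W l ≤ W i) (τ i) = rs _ (inf_le_right : W i ⊓ W l ≤ W l) (τ l)
      set V := W i ⊓ W l
      have hl : V ≤ W i := inf_le_left
      have hr : V ≤ W l := inf_le_right
      simp only [τ, rs_smul, pf_rs]
      obtain ⟨t, ht⟩ := ((he i).mono hl).exists_coeff le_rfl (rs Q hr (e l))
      rw [rs_self] at ht
      have h1 := congrArg (rs ((Scheme.Modules.pullback π).obj Q) (pre (π := π) hl)) (hb i)
      have h2 := congrArg (rs ((Scheme.Modules.pullback π).obj Q) (pre (π := π) hr)) (hb l)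
      rw [rs_smul, rs_rs, pull_rs π Q hl] at h1
      rw [rs_smul, rs_rs, pull_rs π Q hr, ← ht, pull_smul, ← mul_smul, ← h1] at h2
      have h3 := (((he i).mono hl).pullback π Q).inj le_rfl
        (a := ro (pre (π := π) hr) (b l) * π.app V t) (b := ro (pre (π := π) hl) (b i)) (by rw [rs_self]; exact h2)
      rw [← ht, pf_smul, ← mul_smul]
      congr 1
      have n1 := (hc i).res hl
      have n2 := IsNorm.mul ((hc l).res hr) (isNorm_app G V t)
      rw [h3] at n2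
      exact n1.unique n2
  have hloc : ∀ i, CohB1.genLocus _ (Groth.L16.homOfSection _ σ) ⊓ W i = Y.basicOpen (c i) := fun i =>
    genLocus_inf_eq (Groth.L16.homOfSection _ σ) (isFrame_pf (he i) G.m)
      (a := c i) (by rw [secOf_homOfSection]; exact (hσ i).symm)
  have hs : ∀ i, CohB1.genLocus _ s ⊓ (π ⁻¹ᵁ W i) = X.basicOpen (b i) := fun i =>
    genLocus_inf_eq s ((he i).pullback π Q) (hb i)
  have hZy : ∀ i y, y ∈ W i → y ∈ Z → ∀ j ∈ (Scheme.IdealSheafData.vanishingIdeal Z).ideal ⟨W i, hW i⟩,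
      y ∉ Y.basicOpen j := by
    intro i y hyW hyZ j hj hyj
    have h1 : y ∈ (Scheme.IdealSheafData.vanishingIdeal Z).support := by
      rw [← SetLike.mem_coe, Scheme.IdealSheafData.coe_support_vanishingIdeal]; exact hyZ
    rw [Scheme.IdealSheafData.mem_support_iff_of_mem (U := ⟨W i, hW i⟩) hyW, Scheme.mem_zeroLocus_iff] at h1
    exact h1 j hj hyj
  have hcong : ∀ i x, π x ∈ W i → π x ∈ Z → (π x ∈ Y.basicOpen (c i) ↔ x ∈ X.basicOpen (b i)) := by
    intro i x hxW hxZ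
    let gy := (Y.presheaf.germ (W i) (π x) hxW).hom
    let gx := (X.presheaf.germ (π ⁻¹ᵁ W i) x hxW).hom
    have hJ : ∀ j ∈ (Scheme.IdealSheafData.vanishingIdeal Z).ideal ⟨W i, hW i⟩,
        gy j ∈ IsLocalRing.maximalIdeal _ := fun j hj =>
      (IsLocalRing.mem_maximalIdeal _).2 fun hu => hZy i _ hxW hxZ j hj ((Y.mem_basicOpen j _ hxW).2 hu)
    have hJB : gx (b i - π.app (W i) (a i)) ∈ IsLocalRing.maximalIdeal _ := by
      refine (Ideal.map_le_iff_le_comap (K := (IsLocalRing.maximalIdeal _).comap gx)).2 (fun j hj => ?_) (hab i)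
      refine (IsLocalRing.mem_maximalIdeal _).2 fun hu => hZy i _ hxW hxZ j (Ideal.pow_le_self (by omega) hj) ?_
      have hx' := (X.mem_basicOpen _ x hxW).2 hu
      rw [← Scheme.preimage_basicOpen] at hx'
      exact hx'
    have e1 : π x ∈ Y.basicOpen (c i) ↔ π x ∈ Y.basicOpen (a i) := by
      rw [Y.mem_basicOpen _ _ hxW, Y.mem_basicOpen _ _ hxW]
      have h2 := hJ _ (hca i)
      simp only [gy, map_sub, map_pow] at h2
      rw [isUnit_iff_of_sub_mem h2]
      exact isUnit_pow_iff G.pos.ne'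
    have e2 : x ∈ X.basicOpen (b i) ↔ x ∈ X.basicOpen (π.app (W i) (a i)) := by
      rw [X.mem_basicOpen _ _ (show x ∈ π ⁻¹ᵁ W i from hxW),
        X.mem_basicOpen _ _ (show x ∈ π ⁻¹ᵁ W i from hxW)]
      simp only [gx, map_sub] at hJB
      exact isUnit_iff_of_sub_mem hJB
    rw [e1, e2, ← Scheme.preimage_basicOpen]
    rfl
  refine ⟨Groth.L16.homOfSection _ σ, fun y hy => ?_, fun x hxD hx => ?_⟩
  · obtain ⟨i, hyW⟩ := hcov y
    have hfib : ∀ x, π x = y → x ∈ X.basicOpen (b i) := fun x hx =>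
      (hs i).le ⟨hy x hx, show π x ∈ W i by rw [hx]; exact hyW⟩
    refine ((hloc i).ge (?_ : y ∈ Y.basicOpen (c i))).1
    by_cases hyZ : y ∈ Z
    · obtain ⟨x, rfl⟩ := π.surjective y
      exact (hcong i x hyW hyZ).2 (hfib x rfl)
    · let V : Y.Opens := W i ⊓ ⟨(π '' (X.basicOpen (b i) : Set X)ᶜ)ᶜ,
        (π.isClosedMap _ (X.basicOpen (b i)).2.isClosed_compl).isOpen_compl⟩
      have hyV : y ∈ V := ⟨hyW, fun ⟨x, hx, hxy⟩ => hx (hfib x hxy)⟩
      have hVW : V ≤ W i := inf_le_left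
      have hsub : π ⁻¹ᵁ V ≤ X.basicOpen (b i) := fun x hx => by
        by_contra hxb
        exact hx.2 ⟨x, hxb, rfl⟩
      have hu : IsUnit (ro (pre (π := π) hVW) (b i)) := by
        have h0 : IsUnit (ro (X.basicOpen_le (b i)) (b i)) := RingedSpace.isUnit_res_basicOpen X.toRingedSpace (b i)
        have h1 : IsUnit (ro hsub (ro (X.basicOpen_le (b i)) (b i))) := h0.map (X.presheaf.map (homOfLE hsub).op).hom
        rwa [ro_ro] at h1
      obtain ⟨b', hb'⟩ := hu.exists_right_inv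
      obtain ⟨O, hOV, c', hyO, hc', -⟩ := exists_norm_loc G (H y hyZ) b' hyV
      have n1 := IsNorm.mul ((hc i).res (hOV.trans hVW)) hc'
      rw [show ro (pre (π := π) (hOV.trans hVW)) (b i) * ro (pre (π := π) hOV) b' = 1 by
        rw [← ro_ro (pre (π := π) hVW) (pre (π := π) hOV), ← ro_mul, hb']
        exact map_one _] at n1
      have h2 := Y.basicOpen_of_isUnit (IsUnit.of_mul_eq_one _ (n1.unique (isNorm_one _ _)))
      rw [Scheme.basicOpen_res] at h2
      exact (h2.ge hyO).2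
  · obtain ⟨i, hxW⟩ := hcov (π x)
    have hxc : π x ∈ Y.basicOpen (c i) := (hloc i).le ⟨hx, hxW⟩
    refine ((hs i).ge (?_ : x ∈ X.basicOpen (b i))).1
    by_cases hxZ : π x ∈ Z
    · exact (hcong i x hxW hxZ).1 hxc
    · obtain ⟨O, hO, c', hyO, hc', hmem⟩ := exists_norm_loc G (H _ hxZ) (b i) hxW
      refine hmem x hxD rfl ?_
      rw [← ((hc i).res hO).unique hc', Scheme.basicOpen_res]
      exact ⟨hyO, hxc⟩

end Groth.L07.RelAmp
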