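import Groth.Agent.L07.RelAmp.Main

/-!
The descent theorem.
-/

set_option autoImplicit false
set_option backward.isDefEq.respectTransparency false
set_option backward.isDefEq.respectTransparency.types false
set_option linter.style.haveILetI false
universe u

open CategoryTheory CategoryTheory.Limits AlgebraicGeometry TopologicalSpace Opposite

noncomputable section

namespace Groth.L07.RelAmp

open Groth.L18.Frame (rs ro rs_rs rs_self rs_smul ro_ro ro_self IsFrame pull pull_rs pull_smul)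
open Groth.L18.GenLoc Groth.L18.Ample
open Groth.L18.NormFree (app_ro)

variable {X Y : Scheme.{u}} {π : X ⟶ Y} {A : Type u} [CommRing A]

theorem exists_frames [CompactSpace Y] {L : Y.Modules} (hL : PicF.IsInvertible L) :
    ∃ (r : ℕ) (W : Fin r → Y.Opens) (t : ∀ i l, Γ(Y, W i ⊓ W l)),
      (∀ i, IsAffineOpen (W i)) ∧ Nonempty (Frames L W t) := by
  classical
  choose V e hV hyV he using exists_affine_frame hL
  obtain ⟨S, hS⟩ := isCompact_univ.elim_finite_subcover (fun y : Y => (V y : Set Y)) (fun y => (V y).2)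
    (fun y _ => Set.mem_iUnion.2 ⟨y, hyV y⟩)
  let g : Fin S.card → Y := fun i => (S.equivFin.symm i).1
  have ht : ∀ i l, ∃ t : Γ(Y, V (g i) ⊓ V (g l)),
      t • rs L (inf_le_left : V (g i) ⊓ V (g l) ≤ V (g i)) (e (g i)) = rs L inf_le_right (e (g l)) := fun i l => by
    obtain ⟨t, ht⟩ := ((he (g i)).mono (inf_le_left : V (g i) ⊓ V (g l) ≤ V (g i))).exists_coeff le_rfl
      (rs L inf_le_right (e (g l)))
    exact ⟨t, by rwa [rs_self] at ht⟩
  choose t ht using ht
  refine ⟨S.card, fun i => V (g i), t, fun i => hV _,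
    ⟨⟨fun i => e (g i), fun i => he _, fun i l => (ht i l).symm, fun y => ?_⟩⟩⟩
  obtain ⟨z, hz, hyz⟩ := Set.mem_iUnion₂.1 (hS (Set.mem_univ y))
  exact ⟨S.equivFin ⟨z, hz⟩, by simpa [g] using hyz⟩

variable {ι : Type} {W : ι → Y.Opens} {t : ∀ i l, Γ(Y, W i ⊓ W l)} {L : Y.Modules}

/-- Sections of powers of the pullback as families. -/
theorem exists_tup_of_sec [IsAffineHom π] (F : Frames L W t) {n : ℕ}
    (s : Coh.structureModule X ⟶ CohB1.tensorPow ((Scheme.Modules.pullback π).obj L) n) :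
    ∃ b : Tup (fun i => π ⁻¹ᵁ W i),
      IsTup (fun i l => π.app (W i ⊓ W l) (t i l)) n b ∧ CohB1.genLocus _ s = loc b := by
  obtain ⟨b, -, hb, hloc⟩ := ((F.pow n).pullback π).exists_tup (s ≫ (pullPow π L n).inv)
  refine ⟨b, ?_, ?_⟩
  · simp only [powTr, map_pow] at hb
    intro i l
    rw [hb i l, ← pow_mul, mul_one]
  · rw [← hloc]
    exact (Groth.L16.genLocus_comp_iso s (pullPow π L n).symm).symm

/-- The main step: a point is covered once a congruent family with affine locus is found. -/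
theorem exists_affine_sec [IsNoetherian Y] [IsReduced Y] [IsFinite π] [Surjective π] (G : GenBases π)
    (Z : Closeds Y) (H : ∀ y : Y, y ∉ Z → IsGoodPt π y) (F : Frames L W t) (hW : ∀ i, IsAffineOpen (W i)) {M : ℕ}
    (hM : ∀ i (a : Γ(Y, W i)) (b : Γ(X, π ⁻¹ᵁ W i)),
      b - π.app (W i) a ∈
          (((Scheme.IdealSheafData.vanishingIdeal Z).ideal ⟨W i, hW i⟩) ^ (M + 1)).map (π.app (W i)).hom →
        ∃ c, Groth.L18.NormMixed.IsNorm π G.m (W i) b c ∧
          c - a ^ G.m ∈ (Scheme.IdealSheafData.vanishingIdeal Z).ideal ⟨W i, hW i⟩)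
    {N : ℕ} (hN : 0 < N) (b : Tup (fun i => π ⁻¹ᵁ W i)) (hb : IsTup (fun i l => π.app (W i ⊓ W l) (t i l)) N b)
    (a : ∀ i, Γ(Y, W i))
    (hab : ∀ i, b i - π.app (W i) (a i) ∈
      (((Scheme.IdealSheafData.vanishingIdeal Z).ideal ⟨W i, hW i⟩) ^ (M + 1)).map (π.app (W i)).hom)
    (hL : PicF.IsInvertible L) (hG : IsAffineOpen (loc b)) {y : Y} (hy : ∀ x, π x = y → x ∈ loc b) :
    ∃ (n : ℕ) (s : Coh.structureModule Y ⟶ CohB1.tensorPow L (n + 1)),
      y ∈ CohB1.genLocus _ s ∧ IsAffineOpen (CohB1.genLocus _ s) := by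
  have hb' : IsTup (fun i l => π.app (W i ⊓ W l) (powTr t N i l)) 1 b := by
    intro i l
    rw [hb i l]
    simp only [powTr, map_pow, pow_one]
  obtain ⟨s, hs, hloc⟩ := ((F.pow N).pullback π).exists_sec hb'
  obtain ⟨σ, hσ, hσ'⟩ := exists_normSec_congr G Z H W hW F.hcov hM (F.pow N).e (F.pow N).he s a b hs hab
  have hinv := isInvertible_tensorPow hL N
  have haff : IsAffineOpen (CohB1.genLocus _ σ) :=
    isAffineOpen_of_detect (isInvertible_tensorPow hinv G.m) σ _ hG fun x hx hxσ => hloc ▸ hσ' x hx hxσ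
  obtain ⟨n, σ₁, hσ₁⟩ := exists_of_iso (Nat.mul_pos hN G.pos) σ (Groth.L00.Tensor.tensorPowMul L N G.m)
  refine ⟨n, σ₁, ?_, hσ₁ ▸ haff⟩
  rw [hσ₁]
  exact hσ y fun x hx => hloc ▸ hy x hx

/-- Ampleness descends. -/
theorem isAmple_of_pullback_proper_locus [IsNoetherianRing A] (p : Y ⟶ Spec (CommRingCat.of A))
    [LocallyOfFiniteType p] [IsReduced Y] [CompactSpace Y] [IsFinite π] [Surjective π] (Z : Closeds Y)
    (hZ : ClSub.IsProperOver p (Z : Set Y)) (H : ∀ y : Y, y ∉ Z → IsGoodPt π y)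
    (hL : PicF.IsInvertible L) (hA : CohB1.IsAmple ((Scheme.Modules.pullback π).obj L)) : CohB1.IsAmple L := by
  classical
  haveI := LocallyOfFiniteType.isLocallyNoetherian p
  haveI : IsNoetherian Y := {}
  haveI := Groth.L18.Ample.isSeparated_of_isAmple hA
  haveI : IsSeparated (π ≫ terminal.from Y) := by
    rw [Limits.terminal.comp_from]
    infer_instance
  haveI : Y.IsSeparated := ⟨Groth.L19.isSeparated_of_surjective_universallyClosed π (terminal.from Y)⟩
  obtain ⟨G⟩ := exists_genBases (π := π)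
  obtain ⟨r, W, t, hW, ⟨F⟩⟩ := exists_frames hL
  obtain ⟨M, hM⟩ := exists_uniform G Z H W hW
  set u : ∀ i l, Γ(X, (π ⁻¹ᵁ W i) ⊓ (π ⁻¹ᵁ W l)) := fun i l => π.app (W i ⊓ W l) (t i l)
  have hu : ∀ i l, IsUnit (u i l) := fun i l => (F.isUnit i l).map (π.app (W i ⊓ W l)).hom
  have hcov : ∀ x, ∃ i, x ∈ π ⁻¹ᵁ W i := fun x => F.hcov (π x)
  refine ⟨hL, inferInstance, fun y => ?_⟩
  by_cases hyZ : y ∈ Z
  swap
  · obtain ⟨U, hU, hyU, hUZ⟩ := exists_isAffineOpen_mem_and_subset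
      (U := (⟨(Z : Set Y)ᶜ, Z.isClosed.isOpen_compl⟩ : Y.Opens)) hyZ
    obtain ⟨n, s, hs, hsU, haff⟩ := exists_pow_genLocus_of_isAmple hA (π ⁻¹' {y}) (π.finite_preimage_singleton y)
      (π ⁻¹ᵁ U) (fun x hx => by show π x ∈ U; rw [show π x = y from hx]; exact hyU)
    obtain ⟨b, hb, hloc⟩ := exists_tup_of_sec F s
    choose k hk using fun i => exists_pow_mem_map Z (hW i) (M + 1) (b i) fun x hx =>
      hUZ (hsU (hloc.ge (le_iSup (fun l => X.basicOpen (b l)) i hx)))
    set K := Finset.univ.sup k + 1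
    refine exists_affine_sec G Z H F hW hM (N := K * (n + 1)) (Nat.mul_pos (Nat.succ_pos _) n.succ_pos) (b ^ K)
      (hb.pow K) (fun _ => 0) (fun i => ?_) hL (by rw [loc_pow b (Nat.succ_pos _), ← hloc]; exact haff) fun x hx => by
        rw [loc_pow b (Nat.succ_pos _), ← hloc]; exact hs hx
    rw [map_zero, sub_zero, Pi.pow_apply]
    obtain ⟨d, hd⟩ := Nat.exists_eq_add_of_le (Nat.le_succ_of_le (Finset.le_sup (f := k) (Finset.mem_univ i)))
    rw [show K = k i + d from hd, pow_add (b i)]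
    exact Ideal.mul_mem_right _ _ (hk i)
  let I := Scheme.IdealSheafData.vanishingIdeal Z ^ (M + 1)
  have hIr : Set.range I.subschemeι = (Z : Set Y) := by
    rw [Scheme.IdealSheafData.range_subschemeι, Scheme.IdealSheafData.support_pow _ _ (Nat.succ_ne_zero M),
      Scheme.IdealSheafData.coe_support_vanishingIdeal]
  haveI hPZ : IsProper (I.subschemeι ≫ p) := Groth.L17.ProperOver.isProper_of_isProperOver hZ _ hIr.le
  let j := pullback.fst π I.subschemeι
  let h := pullback.snd π I.subschemeι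
  haveI : IsFinite h := MorphismProperty.pullback_snd _ _ inferInstance
  haveI : Surjective h := MorphismProperty.pullback_snd _ _ inferInstance
  haveI : UniversallyClosed (j ≫ π ≫ p) := by
    rw [pullback.condition_assoc]
    infer_instance
  have hampT : CohB1.IsAmple ((Scheme.Modules.pullback h).obj ((Scheme.Modules.pullback I.subschemeι).obj L)) :=
    isAmple_of_iso ((Scheme.Modules.pullbackComp j π).app L ≪≫
        (Scheme.Modules.pullbackCongr pullback.condition).app L ≪≫ ((Scheme.Modules.pullbackComp h I.subschemeι).app L).symm)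
      (isAmple_pullback_of_isAffineHom j hA)
  have hampZ := Groth.L16.Rees.FiniteAmple.isAmple_of_pullback (I.subschemeι ≫ p) h
    (isInvertible_pullback I.subschemeι hL) hampT
  obtain ⟨z, hz⟩ := hIr.ge hyZ
  obtain ⟨n₀, s₀, hzs₀, -⟩ := hampZ.2.2 z
  obtain ⟨c, hc, hcloc⟩ := exists_tup_of_sec (π := I.subschemeι) F s₀
  choose a₀ ha₀ using fun i => I.subschemeι.app_surjective (W i) (hW i) (c i)
  have hsec : ∀ x : X, ∃ (k : ℕ) (b : Tup (fun i => π ⁻¹ᵁ W i)),
      IsTup u (k + 1) b ∧ x ∈ loc b ∧ IsAffineOpen (loc b) := fun x => by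
    obtain ⟨k, s, hxs, haff⟩ := hA.2.2 x
    obtain ⟨b, hb, hloc⟩ := exists_tup_of_sec F s
    exact ⟨k, b, hb, hloc ▸ hxs, hloc ▸ haff⟩
  choose k b hb hxb hbaff using hsec
  haveI : CompactSpace X := hA.2.1
  obtain ⟨S, hS⟩ := (Z.isClosed.preimage π.continuous).isCompact.elim_finite_subcover
    (fun x : X => (loc (b x) : Set X)) (fun x => (loc (b x)).2) (fun x _ => Set.mem_iUnion.2 ⟨x, hxb x⟩)
  let g : Fin S.card → X := fun q => (S.equivFin.symm q).1
  set e₀ := ∏ q, (k (g q) + 1) with he₀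
  have he₀pos : 0 < e₀ := Finset.prod_pos fun q _ => Nat.succ_pos _
  set N := (n₀ + 1) * e₀ with hNdef
  have hNpos : 0 < N := Nat.mul_pos n₀.succ_pos he₀pos
  have hdvd : ∀ q, k (g q) + 1 ∣ N := fun q => dvd_mul_of_dvd_right (Finset.dvd_prod_of_mem _ (Finset.mem_univ q)) _
  let f : Fin S.card → Tup (fun i => π ⁻¹ᵁ W i) := fun q => b (g q) ^ (N / (k (g q) + 1))
  have hfN : ∀ q, IsTup (powTr u N) 1 (f q) := fun q => isTup_powTr.2
    (((hb (g q)).pow _).congr (by rw [Nat.div_mul_cancel (hdvd q), mul_one]))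
  have hfloc : ∀ q, loc (f q) = loc (b (g q)) := fun q =>
    loc_pow _ (Nat.div_pos (Nat.le_of_dvd hNpos (hdvd q)) (Nat.succ_pos _))
  have hu' : ∀ i l, IsUnit (powTr u N i l) := fun i l => (hu i l).pow N
  let a : ∀ i, Γ(Y, W i) := fun i => a₀ i ^ e₀
  have hker : ∀ (V : Y.Opens) (hV : IsAffineOpen V) (β : Γ(X, π ⁻¹ᵁ V)),
      j.app (π ⁻¹ᵁ V) β = 0 ↔ β ∈ (I.ideal ⟨V, hV⟩).map (π.app V).hom := by
    intro V hV β
    rw [π.app_eq_appLE, ← Groth.L22.Ideals.comap_ideal π I ⟨V, hV⟩ ⟨π ⁻¹ᵁ V, hV.preimage π⟩ le_rfl,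
      show I.comap π = j.ker from rfl, Scheme.Hom.ker_apply, RingHom.mem_ker]
  have hτ : IsTupT j (powTr u N) 1 (fun i => j.app (π ⁻¹ᵁ W i) (π.app (W i) (a i))) := by
    intro i l
    have hWil := (hW i).inf (hW l)
    let δ : Γ(Y, W i ⊓ W l) :=
      rh (inf_le_left : W i ⊓ W l ≤ W i) (a i) - t i l ^ N * rh (inf_le_right : W i ⊓ W l ≤ W l) (a l)
    have hδ : I.subschemeι.app (W i ⊓ W l) δ = 0 := by
      have h1 := (hc.pow e₀) i l
      rw [show e₀ * (n₀ + 1) = N by rw [hNdef, mul_comm]] at h1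
      simp only [Pi.pow_apply, map_pow] at h1
      simp only [δ, a, map_sub, map_mul, map_pow, app_rh, ha₀, sub_eq_zero]
      exact h1
    have hδI : δ ∈ I.ideal ⟨W i ⊓ W l, hWil⟩ := by
      rw [← Scheme.IdealSheafData.ker_subschemeι_app I ⟨_, hWil⟩]
      exact hδ
    have h2 := (hker _ hWil _).2 (Ideal.mem_map_of_mem (π.app _).hom hδI)
    simp only [δ, map_sub, map_mul, app_rh, sub_eq_zero] at h2
    rw [pow_one]
    exact h2.trans (congrArg (fun v => j.app _ v * _) (map_pow (π.app _).hom _ _))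
  have hT : ∀ x, ∃ q, j x ∈ loc (f q) := by
    intro x
    have hx : π (j x) ∈ Z := by
      rw [← Scheme.Hom.comp_apply, pullback.condition, Scheme.Hom.comp_apply, ← SetLike.mem_coe, ← hIr]
      exact ⟨h x, rfl⟩
    obtain ⟨w, hw, hxw⟩ := Set.mem_iUnion₂.1 (hS hx)
    exact ⟨S.equivFin ⟨w, hw⟩, by rw [hfloc]; simpa [g] using hxw⟩
  obtain ⟨D, c', hc', hlift⟩ := exists_lift_pow (π ≫ p) j f (fun i => (hW i).preimage π) hcov hu' hfN
    (fun q => by rw [hfloc]; exact hbaff _) hT hτ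
  set b₁ := ∑ q, c' q * f q with hb₁
  have hb₁N : IsTup u (N * (D + 1)) b₁ := isTup_powTr.1 (IsTup.sum _ fun q _ => (hc' q).mul (hfN q))
  let FN := (F.pow (N * (D + 1))).pullback π
  have htup : ∀ v, IsTup u (N * (D + 1)) v →
      IsTup (fun i l => π.app (W i ⊓ W l) (powTr t (N * (D + 1)) i l)) 1 v := fun v hv i l => by
    rw [hv i l]
    simp only [u, powTr, map_pow, pow_one]
  have hterm : ∀ q, ∃ s : Coh.structureModule X ⟶ (Scheme.Modules.pullback π).obj (CohB1.tensorPow L (N * (D + 1))),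
      (∀ i, (c' q * f q) i • FN.e i = rs _ le_top (secOf s)) ∧ IsAffineOpen (CohB1.genLocus _ s) := by
    intro q
    obtain ⟨s, hs, hsloc⟩ := FN.exists_sec (htup _ (isTup_powTr.1 ((hc' q).mul (hfN q))))
    refine ⟨s, hs, ?_⟩
    have hv : IsTup (fun i l => π.app (W i ⊓ W l) (powTr t (N * D) i l)) 1 (c' q) := fun i l => by
      rw [isTup_powTr.1 (hc' q) i l]
      simp only [u, powTr, map_pow, pow_one]
    obtain ⟨sv, -, hsv⟩ := ((F.pow (N * D)).pullback π).exists_sec hv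
    rw [hsloc, loc_mul hu' hcov (hc' q) (hfN q), hfloc, ← hsv]
    exact isAffineOpen_genLocus_inf (isInvertible_pullback π (isInvertible_tensorPow hL _)) sv (hbaff _)
  choose s hs hsaff using hterm
  have hb₁aff : IsAffineOpen (loc b₁) := by
    obtain ⟨v, hv, -, hvloc⟩ := FN.exists_tup (sumSec s)
    have hv' : v = b₁ := funext fun i => (FN.he i).inj le_rfl (by
      rw [rs_self, hv i, hb₁, Finset.sum_apply, Finset.sum_smul, sumSec, secOf_homOfSection]
      simp only [hs]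
      exact map_sum (((Scheme.Modules.pullback π).obj _).presheaf.map (homOfLE le_top).op).hom _ _)
    rw [← hv', ← hvloc]
    exact isAffineOpen_genLocus_sum (isInvertible_pullback π (isInvertible_tensorPow hL _)) s hsaff
  have hab : ∀ i, b₁ i - π.app (W i) (a i ^ (D + 1)) ∈
      (((Scheme.IdealSheafData.vanishingIdeal Z).ideal ⟨W i, hW i⟩) ^ (M + 1)).map (π.app (W i)).hom := by
    intro i
    refine (hker (W i) (hW i) _).1 ?_
    rw [map_sub, sub_eq_zero, map_pow, map_pow]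
    exact congrFun hlift i
  refine exists_affine_sec G Z H F hW hM (Nat.mul_pos hNpos D.succ_pos) b₁ hb₁N (fun i => a i ^ (D + 1)) hab hL
    hb₁aff fun x hx => ?_
  subst hx
  obtain ⟨i, hi⟩ := F.hcov (π x)
  have hya : π x ∈ Y.basicOpen (a i ^ (D + 1)) := by
    rw [Y.basicOpen_pow _ D.succ_pos, Y.basicOpen_pow _ he₀pos]
    have hzi : z ∈ I.subschemeι ⁻¹ᵁ W i := show I.subschemeι z ∈ W i by rw [hz]; exact hi
    have h1 : z ∈ I.subscheme.basicOpen (c i) :=
      (loc_inf (fun i l => (F.isUnit i l).map (I.subschemeι.app (W i ⊓ W l)).hom) hc i).le ⟨hcloc ▸ hzs₀, hzi⟩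
    rw [← ha₀, ← Scheme.preimage_basicOpen] at h1
    exact hz ▸ h1
  refine (le_iSup (fun l => X.basicOpen (b₁ l)) i) ((X.mem_basicOpen _ x hi).2 ?_)
  have hxa : x ∈ X.basicOpen (π.app (W i) (a i ^ (D + 1))) := by
    rw [← Scheme.preimage_basicOpen]; exact hya
  refine (isUnit_iff_of_sub_mem ?_).2 ((X.mem_basicOpen _ x hi).1 hxa)
  rw [← map_sub]
  refine (IsLocalRing.mem_maximalIdeal _).2 fun hun => ?_
  obtain ⟨w, hw, hyw⟩ := mem_of_mem_map (hW i) _ (hab i) ((X.mem_basicOpen _ x hi).2 hun)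
  exact (mem_vanishingIdeal_zero (hW i) hi).1 hyZ w (Ideal.pow_le_self (by omega) hw) hyw

end Groth.L07.RelAmp
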