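import Groth.Agent.L07.RelAmp.Tuple
import Groth.Agent.L07.DVRProper
import Mathlib.RingTheory.Valuation.LocalSubring
import Mathlib.RingTheory.Polynomial.Basic
import Mathlib.Combinatorics.Pigeonhole

/-!
Powers of sections on a closed subscheme proper over the base lift.
-/

set_option autoImplicit false
set_option backward.isDefEq.respectTransparency false
set_option backward.isDefEq.respectTransparency.types false
set_option linter.style.haveILetI false
universe u

open CategoryTheory CategoryTheory.Limits AlgebraicGeometry TopologicalSpace Opposite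

noncomputable section

namespace Groth.L07.RelAmp

open Groth.L18.NormFree (app_ro)

theorem isIntegral_of_forall_prime {R S : Type*} [CommRing R] [CommRing S] [IsNoetherianRing S] [Algebra R S]
    (x : S) (h : ∀ P : Ideal S, P.IsPrime → ∃ q : Polynomial R, q.Monic ∧ Polynomial.aeval x q ∈ P) :
    IsIntegral R x := by
  classical
  haveI : Fintype (minimalPrimes S) := (minimalPrimes.finite_of_isNoetherianRing S).fintype
  choose q hq hqP using fun P : minimalPrimes S => h P.1 (Ideal.minimalPrimes_isPrime P.2)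
  have hmem : ∏ P, Polynomial.aeval x (q P) ∈ sInf (minimalPrimes S) := by
    rw [Submodule.mem_sInf]
    exact fun Q hQ => Ideal.prod_mem _ (Finset.mem_univ (⟨Q, hQ⟩ : minimalPrimes S)) (hqP ⟨Q, hQ⟩)
  rw [show sInf (minimalPrimes S) = (⊥ : Ideal S).radical from Ideal.sInf_minimalPrimes] at hmem
  obtain ⟨N, hN⟩ := hmem
  refine ⟨(∏ P, q P) ^ N, (Polynomial.monic_prod_of_monic _ _ fun P _ => hq P).pow N, ?_⟩
  rw [← Polynomial.aeval_def, map_pow, map_prod]
  exact hN

theorem exists_monic_of_valuation {R S L : Type*} [CommRing R] [CommRing S] [Field L] [Algebra R S] (Φ : S →+* L)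
    (x : S) (h : ∀ V : ValuationSubring L, (∀ r : R, Φ (algebraMap R S r) ∈ V) → Φ x ∈ V) :
    ∃ q : Polynomial R, q.Monic ∧ Φ (Polynomial.aeval x q) = 0 := by
  let ΦR : R →+* L := Φ.comp (algebraMap R S)
  have hmem : Φ x ∈ (integralClosure (Subring.closure (Set.range ΦR)) L).toSubring := by
    rw [← iInf_valuationSubring_superset, Subring.mem_iInf]
    rintro ⟨V, hV⟩
    exact h V fun r => hV ⟨r, rfl⟩
  obtain ⟨q, hq, hq0⟩ := hmem
  let ψ : R →+* Subring.closure (Set.range ΦR) := ΦR.codRestrict _ fun r => Subring.subset_closure ⟨r, rfl⟩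
  have hsurj : Function.Surjective ψ := by
    rintro ⟨y, hy⟩
    obtain ⟨r, hr⟩ : ∃ r, ΦR r = y := by
      induction hy using Subring.closure_induction with
      | mem y hy => exact hy
      | zero => exact ⟨0, map_zero _⟩
      | one => exact ⟨1, map_one _⟩
      | add y z _ _ h h' =>
        obtain ⟨a, rfl⟩ := h
        obtain ⟨b, rfl⟩ := h'
        exact ⟨a + b, map_add _ _ _⟩
      | neg y _ h =>
        obtain ⟨a, rfl⟩ := h
        exact ⟨-a, map_neg _ _⟩
      | mul y z _ _ h h' =>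
        obtain ⟨a, rfl⟩ := h
        obtain ⟨b, rfl⟩ := h'
        exact ⟨a * b, map_mul _ _ _⟩
    exact ⟨r, Subtype.ext hr⟩
  obtain ⟨Q, hQq, -, hQ⟩ := Polynomial.lifts_and_degree_eq_and_monic
    ((Polynomial.mem_lifts _).2 (Polynomial.map_surjective _ hsurj q)) hq
  refine ⟨Q, hQ, ?_⟩
  rw [← hq0, ← hQq, Polynomial.aeval_def, Polynomial.hom_eval₂, Polynomial.eval₂_map]
  rfl

variable {T : Scheme.{u}} {K : Type u} [Field K]

/-- Evaluation at a morphism from the spectrum of a field or valuation ring. -/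
def ev {R : CommRingCat.{u}} (a : Spec R ⟶ T) (W : T.Opens) (h : ⊤ ≤ a ⁻¹ᵁ W) : Γ(T, W) →+* R :=
  (a.appLE W ⊤ h ≫ (Scheme.ΓSpecIso R).hom).hom

theorem ev_res {R : CommRingCat.{u}} (a : Spec R ⟶ T) {W W' : T.Opens} (hW : W' ≤ W) (h : ⊤ ≤ a ⁻¹ᵁ W')
    (s : Γ(T, W)) : ev a W' h (rh hW s) = ev a W (h.trans (a.preimage_mono hW)) s := by
  show (T.presheaf.map (homOfLE hW).op ≫ a.appLE W' ⊤ h ≫ (Scheme.ΓSpecIso R).hom).hom s = _
  rw [Scheme.Hom.map_appLE_assoc]
  rfl

theorem ev_comp {R S : CommRingCat.{u}} (φ : R ⟶ S) (l : Spec R ⟶ T) (W : T.Opens) (h : ⊤ ≤ l ⁻¹ᵁ W)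
    (h' : ⊤ ≤ (Spec.map φ ≫ l) ⁻¹ᵁ W) (s : Γ(T, W)) : ev (Spec.map φ ≫ l) W h' s = φ (ev l W h s) := by
  show ((Spec.map φ ≫ l).appLE W ⊤ h' ≫ (Scheme.ΓSpecIso S).hom).hom s =
    (l.appLE W ⊤ h ≫ (Scheme.ΓSpecIso R).hom ≫ φ).hom s
  rw [← Scheme.Hom.appLE_comp_appLE (Spec.map φ) l W ⊤ ⊤ h le_top, Category.assoc,
    show (Spec.map φ).appLE ⊤ ⊤ le_top = (Spec.map φ).appTop from ((Spec.map φ).app_eq_appLE (U := ⊤)).symm,
    Scheme.ΓSpecIso_naturality]

theorem ev_fromSpec {R : CommRingCat.{u}} {W : T.Opens} (hW : IsAffineOpen W) (φ : Γ(T, W) ⟶ R)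
    (h : ⊤ ≤ (Spec.map φ ≫ hW.fromSpec) ⁻¹ᵁ W) (s : Γ(T, W)) : ev (Spec.map φ ≫ hW.fromSpec) W h s = φ s := by
  rw [ev_comp φ hW.fromSpec W hW.fromSpec_preimage_self.ge h s]
  congr 1
  show (hW.fromSpec.appLE W ⊤ _ ≫ (Scheme.ΓSpecIso Γ(T, W)).hom).hom s = s
  rw [Scheme.Hom.appLE, hW.fromSpec_app_self, Category.assoc, Category.assoc, ← Functor.map_comp_assoc,
    Subsingleton.elim ((eqToHom _).op ≫ (homOfLE _).op) (𝟙 (op (⊤ : (Spec Γ(T, W)).Opens))), CategoryTheory.Functor.map_id,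
    Category.id_comp, Iso.inv_hom_id]
  rfl

variable {X : Scheme.{u}} {A : Type u} [CommRing A] {ι : Type} {U : ι → X.Opens} (p : X ⟶ Spec (CommRingCat.of A))

/-- Scalars as functions on the members. -/
def sc : A →+* Tup U :=
  RingHom.pi fun i => ((Scheme.ΓSpecIso (CommRingCat.of A)).inv ≫ p.appLE ⊤ (U i) le_top).hom

theorem isTup_sc {u : ∀ i l, Γ(X, U i ⊓ U l)} (a : A) : IsTup u 0 (sc (U := U) p a) := fun i l => by
  rw [pow_zero, one_mul]
  show ((Scheme.ΓSpecIso (CommRingCat.of A)).inv ≫ p.appLE ⊤ (U i) le_top ≫ X.presheaf.map _).hom a =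
    ((Scheme.ΓSpecIso (CommRingCat.of A)).inv ≫ p.appLE ⊤ (U l) le_top ≫ X.presheaf.map _).hom a
  rw [Scheme.Hom.appLE_map, Scheme.Hom.appLE_map]

variable [IsNoetherianRing A] [LocallyOfFiniteType p] [X.IsSeparated] (j : T ⟶ X) [IsClosedImmersion j]
  [UniversallyClosed (j ≫ p)] [Finite ι] {κ : Type} [Fintype κ] {u : ∀ i l, Γ(X, U i ⊓ U l)} (f : κ → Tup U)

set_option maxHeartbeats 800000 in
/-- A valuation subring containing the values of the given sections contains that of the section. -/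
theorem mem_valuation [DecidableEq ι] (hU : ∀ i, IsAffineOpen (U i)) (hu : ∀ i l, IsUnit (u i l))
    (hf : ∀ k, IsTup u 1 (f k)) (hT : ∀ t, ∃ k, j t ∈ loc (f k)) {τ : ∀ i, Γ(T, j ⁻¹ᵁ U i)}
    (hτ : IsTupT j u 1 τ) {L : Type u} [Field L] (φ : (∀ i, Γ(T, j ⁻¹ᵁ U i)) →+* L) (x : L)
    (V : ValuationSubring L) (hVA : ∀ r : A, φ (resT j (sc p r)) ∈ V)
    (hVf : ∀ k, φ (resT j (f k)) * x ∈ V) : φ τ * x ∈ V := by
  classical
  haveI := Fintype.ofFinite ι
  let B := ∀ i, Γ(T, j ⁻¹ᵁ U i)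
  obtain ⟨i, hi⟩ : ∃ i, φ (Pi.single i 1) = 1 := by
    by_contra hcon
    push Not at hcon
    have h0 : ∀ i, φ (Pi.single i 1) = 0 := fun i => by
      have h2 : φ (Pi.single i 1) * φ (Pi.single i 1) = φ (Pi.single i 1) := by
        rw [← map_mul, ← Pi.single_mul, one_mul]
      exact (mul_eq_zero.1 (show φ (Pi.single i 1) * (φ (Pi.single i 1) - 1) = 0 by
        rw [mul_sub, h2, mul_one, sub_self])).resolve_right (sub_ne_zero.2 (hcon i))
    refine one_ne_zero (α := L) ?_
    rw [← map_one φ, show (1 : B) = ∑ i, Pi.single i 1 from (Finset.univ_sum_single (1 : B)).symm, map_sum]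
    exact Finset.sum_eq_zero fun i _ => h0 i
  let φi : Γ(T, j ⁻¹ᵁ U i) →+* L :=
    { toFun := fun s => φ (Pi.single i s)
      map_one' := hi
      map_mul' := fun s t => by rw [Pi.single_mul, map_mul]
      map_zero' := by rw [Pi.single_zero, map_zero]
      map_add' := fun s t => by rw [Pi.single_add, map_add] }
  have hφ : ∀ b : B, φ b = φi (b i) := fun b => by
    show φ b = φ (Pi.single i (b i))
    conv_lhs => rw [← mul_one (φ b), ← hi, ← map_mul]
    congr 1
    funext l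
    by_cases hl : l = i
    · subst hl
      show b l * Pi.single (M := fun i => Γ(T, j ⁻¹ᵁ U i)) l 1 l = Pi.single (M := fun i => Γ(T, j ⁻¹ᵁ U i)) l (b l) l
      rw [Pi.single_eq_same, Pi.single_eq_same, mul_one]
    · show b l * Pi.single (M := fun i => Γ(T, j ⁻¹ᵁ U i)) i 1 l = Pi.single (M := fun i => Γ(T, j ⁻¹ᵁ U i)) i (b i) l
      rw [Pi.single_eq_of_ne hl, Pi.single_eq_of_ne hl, mul_zero]
  have hT_i : IsAffineOpen (j ⁻¹ᵁ U i) := (hU i).preimage j
  let φi' : Γ(T, j ⁻¹ᵁ U i) ⟶ CommRingCat.of L := CommRingCat.ofHom φi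
  let a : Spec (CommRingCat.of L) ⟶ T := Spec.map φi' ≫ hT_i.fromSpec
  let αV : CommRingCat.of A ⟶ CommRingCat.of V :=
    CommRingCat.ofHom ((φ.comp ((resT j).comp (sc p))).codRestrict V.toSubring hVA)
  have hsq : a ≫ j ≫ p = Spec.map (CommRingCat.ofHom V.subtype) ≫ Spec.map αV := by
    have h1 := IsAffineOpen.SpecMap_appLE_fromSpec p (isAffineOpen_top (Spec (CommRingCat.of A))) (hU i) le_top
    have h2 := IsAffineOpen.SpecMap_appLE_fromSpec j (hU i) hT_i le_rfl
    rw [IsAffineOpen.fromSpec_top, Scheme.isoSpec_Spec_inv] at h1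
    simp only [a, Category.assoc]
    rw [← reassoc_of% h2, ← h1, ← Spec.map_comp, ← Spec.map_comp, ← Spec.map_comp, ← Spec.map_comp]
    congr 1
    refine CommRingCat.hom_ext (RingHom.ext fun r => ?_)
    show φi (j.appLE (U i) _ le_rfl (p.appLE ⊤ (U i) le_top ((Scheme.ΓSpecIso (CommRingCat.of A)).inv r))) =
      φ (resT j (sc p r))
    rw [hφ, ← Scheme.Hom.app_eq_appLE]
    rfl
  obtain ⟨l, hl, -⟩ := Groth.L07.DVRProper.exists_lift (j ≫ p) V a (Spec.map αV) hsq
  obtain ⟨k, hk⟩ := hT (l (IsLocalRing.closedPoint V))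
  obtain ⟨q, hq⟩ := Opens.mem_iSup.1 hk
  set D := X.basicOpen (f k q)
  have hDU : D ≤ U q := X.basicOpen_le _
  have hl0 : l ⁻¹ᵁ (j ⁻¹ᵁ D) = ⊤ := Scheme.preimage_eq_top_of_closedPoint_mem l hq
  let fb := j.app D (rh hDU (f k q))
  obtain ⟨fi, hfi⟩ := ((isUnit_app hDU (f k q) le_rfl).map (j.app D).hom : IsUnit fb).exists_right_inv
  let c : Γ(T, j ⁻¹ᵁ D) := rh (pre (π := j) hDU) (τ q) * fi
  let W1 := j ⁻¹ᵁ (D ⊓ U i)
  have haD : ⊤ ≤ a ⁻¹ᵁ (j ⁻¹ᵁ D) := by
    rw [← hl]
    intro x _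
    exact hl0.ge (Opens.mem_top _)
  have hai : ⊤ ≤ a ⁻¹ᵁ (j ⁻¹ᵁ U i) := fun x _ => hT_i.range_fromSpec.le ⟨Spec.map φi' x, rfl⟩
  have ha1 : ⊤ ≤ a ⁻¹ᵁ W1 := fun x hx => ⟨haD hx, hai hx⟩
  have h1D : D ⊓ U i ≤ U i ⊓ U q := le_inf inf_le_right (inf_le_left.trans hDU)
  have key : rh (pre (π := j) (inf_le_right : D ⊓ U i ≤ U i)) (τ i) =
      rh (pre (π := j) (inf_le_left : D ⊓ U i ≤ D)) c *
        rh (pre (π := j) (inf_le_right : D ⊓ U i ≤ U i)) (j.app (U i) (f k i)) := by
    have e1 := congrArg (rh (pre (π := j) h1D)) (hτ i q)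
    have e2 := congrArg (j.app (D ⊓ U i)) (congrArg (rh h1D) (hf k i q))
    have e3 := congrArg (rh (pre (π := j) (inf_le_left : D ⊓ U i ≤ D))) hfi
    simp only [fb, pow_one, map_mul, map_one, rh_rh, rh_eq_ro, app_ro, Groth.L18.Frame.ro_ro] at e1 e2 e3
    simp only [c, map_mul, rh_rh, rh_eq_ro, Groth.L18.Frame.ro_ro]
    rw [e1, e2, mul_mul_mul_comm, mul_comm (Groth.L18.Frame.ro _ fi), ← mul_assoc]
    conv_rhs => rw [mul_assoc, e3, mul_one, mul_comm]
  have hc : ev a (j ⁻¹ᵁ D) haD c ∈ V := by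
    have : ∀ a' (_ : Spec.map (CommRingCat.ofHom V.subtype) ≫ l = a') (h : ⊤ ≤ a' ⁻¹ᵁ (j ⁻¹ᵁ D)),
        ev a' (j ⁻¹ᵁ D) h c ∈ V := by
      rintro _ rfl h
      rw [ev_comp _ l _ hl0.ge]
      exact SetLike.coe_mem _
    exact this a hl haD
  have hv := congrArg (ev a W1 ha1) key
  rw [map_mul, ev_res, ev_res, ev_res] at hv
  have hev : ∀ h s, ev a (j ⁻¹ᵁ U i) h s = φi s := fun h s => ev_fromSpec hT_i φi' h s
  rw [hev, hev] at hv
  rw [hφ τ, show φi (τ i) = _ from hv, mul_assoc]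
  refine mul_mem hc ?_
  show φi (resT j (f k) i) * x ∈ V
  rw [← hφ]
  exact hVf k

/-- Integrality of a section over the ring generated by sections without common zero. -/
theorem exists_pow_mem [DecidableEq ι] (hU : ∀ i, IsAffineOpen (U i)) (hu : ∀ i l, IsUnit (u i l))
    (hf : ∀ k, IsTup u 1 (f k)) (hT : ∀ t, ∃ k, j t ∈ loc (f k)) {τ : ∀ i, Γ(T, j ⁻¹ᵁ U i)}
    (hτ : IsTupT j u 1 τ) :
    letI := ((resT j).comp (sc (U := U) p)).toAlgebra
    ∃ n, 0 < n ∧ τ ^ n ∈ ⨆ q : Fin n,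
      Submodule.span A (Set.range fun k => resT j (f k)) ^ (n - q.1) * Submodule.span A {τ ^ q.1} := by
  classical
  haveI := Fintype.ofFinite ι
  letI := ((resT j).comp (sc (U := U) p)).toAlgebra
  let B := ∀ i, Γ(T, j ⁻¹ᵁ U i)
  haveI : IsLocallyNoetherian T := LocallyOfFiniteType.isLocallyNoetherian (j ≫ p)
  haveI : ∀ i, IsNoetherianRing Γ(T, j ⁻¹ᵁ U i) := fun i =>
    IsLocallyNoetherian.component_noetherian ⟨_, (hU i).preimage j⟩
  let R := Algebra.adjoin A (Set.range fun k => Polynomial.C (resT j (f k)) * (Polynomial.X : Polynomial B))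
  have hint : IsIntegral R (Polynomial.C τ * (Polynomial.X : Polynomial B)) := by
    refine isIntegral_of_forall_prime _ fun P hP => ?_
    let L := FractionRing (Polynomial B ⧸ P)
    obtain ⟨Q, hQ, hQe⟩ := exists_monic_of_valuation (R := R)
      ((algebraMap (Polynomial B ⧸ P) L).comp (Ideal.Quotient.mk P)) (Polynomial.C τ * Polynomial.X) fun V hV => by
        rw [map_mul]
        refine mem_valuation p j f hU hu hf hT hτ
          (((algebraMap (Polynomial B ⧸ P) L).comp (Ideal.Quotient.mk P)).comp Polynomial.C) _ V (fun r => ?_) fun k => ?_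
        · have := hV (algebraMap A R r)
          rwa [← IsScalarTower.algebraMap_apply, Polynomial.algebraMap_apply] at this
        · have := hV ⟨_, Algebra.subset_adjoin ⟨k, rfl⟩⟩
          rwa [show algebraMap R (Polynomial B) ⟨_, Algebra.subset_adjoin ⟨k, rfl⟩⟩ =
            Polynomial.C (resT j (f k)) * Polynomial.X from rfl, map_mul] at this
    exact ⟨Q, hQ, Ideal.Quotient.eq_zero_iff_mem.1
      (IsFractionRing.injective (Polynomial B ⧸ P) L (hQe.trans (map_zero _).symm))⟩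
  rcases subsingleton_or_nontrivial B with hB | hB
  · refine ⟨1, one_pos, ?_⟩
    rw [Subsingleton.elim (α := B) (τ ^ 1) 0]
    exact Submodule.zero_mem _
  obtain ⟨Q₀, hQ₀, hQ₀e⟩ := hint
  set Q := Q₀ * Polynomial.X
  have hQ : Q.Monic := hQ₀.mul Polynomial.monic_X
  have hQe : Polynomial.eval₂ (algebraMap R (Polynomial B)) (Polynomial.C τ * Polynomial.X) Q = 0 := by
    rw [Polynomial.eval₂_mul, hQ₀e, zero_mul]
  set F := Submodule.span A (Set.range fun k => resT j (f k))
  have hR : ∀ r ∈ R, ∀ e, Polynomial.coeff r e ∈ F ^ e := by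
    intro r hr
    induction hr using Algebra.adjoin_induction with
    | mem r hr =>
      obtain ⟨k, rfl⟩ := hr
      intro e
      rcases eq_or_ne e 1 with rfl | he
      · rw [Polynomial.coeff_C_mul_X, if_pos rfl, pow_one]
        exact Submodule.subset_span ⟨k, rfl⟩
      · rw [Polynomial.coeff_C_mul_X, if_neg he]
        exact Submodule.zero_mem _
    | algebraMap r =>
      intro e
      rw [Polynomial.algebraMap_apply, Polynomial.coeff_C]
      split_ifs with h
      · subst h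
        rw [Submodule.pow_zero, Submodule.one_eq_range]
        exact ⟨r, rfl⟩
      · exact Submodule.zero_mem _
    | add r r' _ _ h h' => intro e; rw [Polynomial.coeff_add]; exact Submodule.add_mem _ (h e) (h' e)
    | mul r r' _ _ h h' =>
      intro e
      rw [Polynomial.coeff_mul]
      refine Submodule.sum_mem _ fun x hx => ?_
      rw [← Finset.mem_antidiagonal.1 hx, pow_add]
      exact Submodule.mul_mem_mul (h _) (h' _)
  refine ⟨Q.natDegree, by rw [Polynomial.natDegree_mul_X hQ₀.ne_zero]; exact Nat.succ_pos _, ?_⟩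
  set n := Q.natDegree
  have h0 := congrArg (fun P => Polynomial.coeff P n) hQe
  simp only [Polynomial.eval₂_eq_sum_range, Polynomial.finsetSum_coeff, Polynomial.coeff_zero] at h0
  rw [Finset.sum_range_succ, hQ.coeff_natDegree, map_one, one_mul, mul_pow, ← Polynomial.C_pow,
    Polynomial.coeff_C_mul, Polynomial.coeff_X_pow_self, mul_one] at h0
  rw [eq_neg_of_add_eq_zero_right h0]
  refine Submodule.neg_mem _ (Submodule.sum_mem _ fun q hq => ?_)
  have hqn : q < n := Finset.mem_range.1 hq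
  refine Submodule.mem_iSup_of_mem (⟨q, hqn⟩ : Fin n) ?_
  rw [mul_pow, ← Polynomial.C_pow, ← mul_assoc, mul_comm (algebraMap R (Polynomial B) _), mul_assoc,
    Polynomial.coeff_C_mul, Polynomial.coeff_mul_X_pow', if_pos hqn.le]
  rw [mul_comm (τ ^ q)]
  exact Submodule.mul_mem_mul (hR _ (Q.coeff q).2 _) (Submodule.mem_span_singleton_self _)

include p in
/-- A power of a section on the subscheme lifts into the sections generated by the given ones. -/
theorem exists_lift_pow (hU : ∀ i, IsAffineOpen (U i)) (hcov : ∀ x, ∃ i, x ∈ U i) (hu : ∀ i l, IsUnit (u i l))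
    (hf : ∀ k, IsTup u 1 (f k)) (hG : ∀ k, IsAffineOpen (loc (f k))) (hT : ∀ t, ∃ k, j t ∈ loc (f k))
    {τ : ∀ i, Γ(T, j ⁻¹ᵁ U i)} (hτ : IsTupT j u 1 τ) :
    ∃ (D : ℕ) (t : κ → Tup U), (∀ k, IsTup u D (t k)) ∧ resT j (∑ k, t k * f k) = τ ^ (D + 1) := by
  classical
  letI := ((resT j).comp (sc (U := U) p)).toAlgebra
  obtain ⟨n, hn, hτn⟩ := exists_pow_mem p j f hU hu hf hT hτ
  set F := Submodule.span A (Set.range fun k => resT j (f k))
  have hpow : ∀ P, τ ^ P ∈ ⨆ q : {q : Fin n // q.1 ≤ P}, F ^ (P - q.1.1) * Submodule.span A {τ ^ q.1.1} := by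
    intro P
    induction P using Nat.strong_induction_on with
    | _ P ih =>
      by_cases hP : P < n
      · refine Submodule.mem_iSup_of_mem ⟨⟨P, hP⟩, le_rfl⟩ ?_
        rw [Nat.sub_self, Submodule.pow_zero, one_mul]
        exact Submodule.mem_span_singleton_self _
      · push Not at hP
        rw [← Nat.sub_add_cancel hP, pow_add]
        have h1 := Submodule.mul_mem_mul (Submodule.mem_span_singleton_self (R := A) (τ ^ (P - n))) hτn
        rw [Submodule.mul_iSup, Nat.sub_add_cancel hP] at *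
        refine SetLike.le_def.1 (iSup_le fun q => ?_) h1
        rw [mul_left_comm, Submodule.span_mul_span, Set.singleton_mul_singleton, ← pow_add]
        have hle : P - n + q.1 < P := by have := q.2; omega
        refine (mul_le_mul' le_rfl ((Submodule.span_singleton_le_iff_mem _ _).2 (ih _ hle))).trans ?_
        rw [Submodule.mul_iSup]
        refine iSup_le fun q' => le_iSup_of_le ⟨q'.1, q'.2.trans hle.le⟩ ?_
        rw [← mul_assoc, ← pow_add]
        refine le_of_eq ?_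
        congr 2
        have := q.2
        have := q'.2
        show n - q.1 + (P - n + q.1 - q'.1.1) = P - q'.1.1
        omega
  choose K hK using fun kq : κ × Fin n => exists_lift_mul_pow j hU hcov hu (hf kq.1) (hG kq.1)
    ((hτ.pow j kq.2.1).pow j 1)
  set K₀ := Finset.univ.sup K
  let E := Fintype.card κ * K₀ + 1
  set P := n + E
  refine (?_ : τ ^ P ∈ {z | ∃ (D : ℕ) (t : κ → Tup U), D + 1 = P ∧ (∀ k, IsTup u D (t k)) ∧
      resT j (∑ k, t k * f k) = z}).elim fun D h => h.elim fun t ht => ⟨D, t, ht.2.1, ht.1.symm ▸ ht.2.2⟩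
  let Img : Submodule A (∀ i, Γ(T, j ⁻¹ᵁ U i)) :=
    { carrier := {z | ∃ t : κ → Tup U, (∀ k, IsTup u (P - 1) (t k)) ∧ resT j (∑ k, t k * f k) = z}
      add_mem' := by
        rintro _ _ ⟨t, ht, rfl⟩ ⟨t', ht', rfl⟩
        exact ⟨t + t', fun k => (ht k).add (ht' k), by
          simp only [Pi.add_apply, add_mul, Finset.sum_add_distrib, map_add]⟩
      zero_mem' := ⟨0, fun k => IsTup.zero _, by simp⟩
      smul_mem' := by
        rintro r _ ⟨t, ht, rfl⟩
        refine ⟨fun k => sc p r * t k, fun k => ((isTup_sc p r).mul (ht k)).congr (Nat.zero_add _), ?_⟩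
        rw [Algebra.smul_def]
        show _ = resT j (sc p r) * _
        rw [← map_mul, Finset.mul_sum]
        simp only [mul_assoc] }
  suffices h : τ ^ P ∈ Img by
    obtain ⟨t, ht, e⟩ := h
    exact ⟨P - 1, t, by omega, ht, e⟩
  refine SetLike.le_def.1 (iSup_le fun q => ?_ : _ ≤ Img) (hpow P)
  obtain ⟨e, he⟩ : ∃ e, e = P - q.1.1 := ⟨_, rfl⟩
  rw [← he, Submodule.span_pow, Submodule.span_mul_span, Submodule.span_le]
  rintro _ ⟨y, hy, _, rfl, rfl⟩
  obtain ⟨g, rfl⟩ := Set.mem_pow.1 hy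
  choose kf hkf using fun r => (g r).2
  have hq := q.1.2
  obtain ⟨k, hk⟩ : ∃ k, K₀ < (Finset.univ.filter fun r => kf r = k).card := by
    obtain ⟨k, -, hk⟩ := Finset.exists_lt_card_fiber_of_mul_lt_card_of_maps_to (s := (Finset.univ : Finset (Fin e))) (t := (Finset.univ : Finset κ))
      (f := kf) (n := K₀) (fun r _ => Finset.mem_univ _)
      (by simp only [Finset.card_univ, Fintype.card_fin]; omega)
    exact ⟨k, hk⟩
  set S := Finset.univ.filter fun r => kf r = k
  obtain ⟨g₀, hg₀, hg₀e⟩ := hK (k, q.1) (S.card - 1)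
    (((Finset.le_sup (Finset.mem_univ _) : K (k, q.1) ≤ K₀)).trans (by omega))
  refine ⟨Pi.single k (g₀ * ∏ r ∈ Finset.univ.filter (fun r => kf r ≠ k), f (kf r)), fun l => ?_, ?_⟩
  · rcases eq_or_ne l k with rfl | hl
    · rw [Pi.single_eq_same]
      refine (hg₀.mul (IsTup.prod _ fun r _ => hf _)).congr ?_
      have := Finset.card_filter_add_card_filter_not (s := (Finset.univ : Finset (Fin e))) (fun r => kf r = l)
      simp only [Finset.card_univ, Fintype.card_fin] at this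
      simp only [S, ne_eq] at *
      omega
    · rw [Pi.single_eq_of_ne hl]
      exact IsTup.zero _
  · rw [Finset.sum_eq_single k (fun l _ hl => by rw [Pi.single_eq_of_ne hl, zero_mul]) (by simp),
      Pi.single_eq_same, map_mul, map_mul, hg₀e, pow_one, List.prod_ofFn, map_prod]
    simp only [← hkf]
    rw [← Finset.prod_filter_mul_prod_filter_not Finset.univ (fun r => kf r = k),
      Finset.prod_congr rfl (g := fun _ => resT j (f k))
        (fun r (hr : r ∈ Finset.univ.filter fun r => kf r = k) => by rw [(Finset.mem_filter.1 hr).2]),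
      Finset.prod_const]
    change _ = (resT j (f k) ^ S.card * _) * τ ^ q.1.1
    conv_rhs => rw [← Nat.sub_add_cancel (show 1 ≤ S.card by omega), pow_succ]
    simp only [ne_eq]
    ring

end Groth.L07.RelAmp
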