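import Groth.Agent.L07.RelAmp.Descent
import Groth.Agent.L16.Exist.PushPull
import Groth.Agent.L20.ModStalk
import Groth.Agent.L18.AmpleNil
import Groth.Agent.L27.ExtZero.Proper

/-!
Good bases near points with free direct image, and the reduction to a reduced scheme.
-/

set_option autoImplicit false
set_option backward.isDefEq.respectTransparency false
set_option backward.isDefEq.respectTransparency.types false
set_option linter.style.haveILetI false
universe u

open CategoryTheory CategoryTheory.Limits AlgebraicGeometry TopologicalSpace Opposite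

noncomputable section

namespace Groth.L07.RelAmp

open Groth.L18.Frame (ro ro_ro ro_self)
open Groth.L18.NormFree Groth.L18.Ample

/-- A basis after inverting an element for which the localised module is free. -/
theorem exists_basisAway_of_free {A B : Type u} [CommRing A] [CommRing B] [Algebra A B] (r : A)
    [Nontrivial (Localization (Submonoid.powers r))] [Module.Finite A B]
    [Module.Free (Localization (Submonoid.powers r)) (LocalizedModule.Away r B)] :
    ∃ (n : ℕ) (x : Fin n → B),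
      (∀ z : B, ∃ (N : ℕ) (a : Fin n → A), r ^ N • z = ∑ k, a k • x k) ∧
      ∀ a : Fin n → A, ∑ k, a k • x k = 0 → ∃ N : ℕ, ∀ k, r ^ N * a k = 0 := by
  let f := LocalizedModule.mkLinearMap (Submonoid.powers r) B
  haveI : Module.Finite (Localization (Submonoid.powers r)) (LocalizedModule.Away r B) :=
    Module.Finite.of_isLocalizedModule (Submonoid.powers r) f
  let b := Module.finBasis (Localization (Submonoid.powers r)) (LocalizedModule.Away r B)
  obtain ⟨⟨_, e, rfl⟩, hxs⟩ := IsLocalizedModule.exist_integer_multiples_of_finite (Submonoid.powers r) f b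
  choose x hx using hxs
  have hx' : ∀ k, f (x k) = (r ^ e) • b k := hx
  refine ⟨_, x, fun z => ?_, fun a ha => ?_⟩
  · obtain ⟨⟨_, M, rfl⟩, hM⟩ := IsLocalization.exist_integer_multiples_of_finite (Submonoid.powers r)
      (fun k => b.repr (f z) k)
    choose c hc' using hM
    have hc : ∀ k, algebraMap A (Localization (Submonoid.powers r)) (c k) = r ^ M • b.repr (f z) k := hc'
    have h1 : f (r ^ (M + e) • z) = f (∑ k, c k • x k) := by
      rw [map_smul, map_sum]
      conv_lhs => rw [← b.sum_repr (f z)]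
      rw [Finset.smul_sum]
      refine Finset.sum_congr rfl fun k _ => ?_
      rw [map_smul, hx', ← algebraMap_smul (Localization (Submonoid.powers r)) (c k),
        hc k, smul_assoc, pow_add, mul_smul]
      exact congrArg _ (smul_comm _ _ _)
    obtain ⟨⟨_, K, rfl⟩, hK⟩ := IsLocalizedModule.exists_of_eq (S := Submonoid.powers r) h1
    refine ⟨K + (M + e), fun k => r ^ K * c k, ?_⟩
    rw [pow_add, mul_smul]
    refine hK.trans ?_
    rw [Submonoid.smul_def, Finset.smul_sum]
    simp only [smul_smul]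
  · have h1 : ∑ k, algebraMap A (Localization (Submonoid.powers r)) (r ^ e * a k) • b k = 0 := by
      rw [← map_zero f, ← ha, map_sum]
      refine Finset.sum_congr rfl fun k _ => ?_
      rw [map_smul, hx', algebraMap_smul, ← mul_smul, mul_comm]
    have h2 := fun k => Fintype.linearIndependent_iff.1 b.linearIndependent _ h1 k
    have h4 : ∀ k, ∃ N : ℕ, r ^ N * (r ^ e * a k) = 0 := fun k => by
      obtain ⟨⟨_, N, rfl⟩, hN⟩ :=
        (IsLocalization.map_eq_zero_iff (Submonoid.powers r) (Localization (Submonoid.powers r)) _).1 (h2 k)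
      exact ⟨N, hN⟩
    choose N hN using h4
    refine ⟨Finset.univ.sup N + e, fun k => ?_⟩
    obtain ⟨l, hl⟩ := Nat.exists_eq_add_of_le (Finset.le_sup (f := N) (Finset.mem_univ k))
    rw [hl, show r ^ (N k + l + e) * a k = r ^ l * (r ^ N k * (r ^ e * a k)) by ring, hN, mul_zero]

variable {X Y : Scheme.{u}} {π : X ⟶ Y}

theorem exists_goodBasis_of_free [IsLocallyNoetherian Y] [IsFinite π] {y : Y}
    (h : Module.Free (Y.presheaf.stalk y) (((Coh.push π).obj (Coh.structureModule X)).presheaf.stalk y)) :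
    ∃ (V : Y.Opens) (k : ℕ) (d : Fin k → Γ(X, π ⁻¹ᵁ V)), IsAffineOpen V ∧ y ∈ V ∧ IsGoodBasis π d := by
  set M := (Coh.push π).obj (Coh.structureModule X)
  haveI : IsLocallyNoetherian X := LocallyOfFiniteType.isLocallyNoetherian π
  have hM : Coh.IsCoh M := Groth.L16.Exist.isCoh_pushforward π (Groth.L16.Rees.RelVanish.isCoh_structureModule X)
  haveI : Coh.IsQCoh M := hM.1
  obtain ⟨W, hW, hyW, -⟩ := exists_affine_le (Opens.mem_top y)
  haveI : IsNoetherianRing Γ(Y, W) := IsLocallyNoetherian.component_noetherian ⟨W, hW⟩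
  letI := (π.app W).hom.toAlgebra
  haveI : Module.Finite Γ(Y, W) Γ(X, π ⁻¹ᵁ W) := IsFinite.finite_app π W hW
  haveI : Module.Finite Γ(Y, W) Γ(M, W) := Groth.L20.ModStalk.finite_sections M hM hW
  haveI : Module.FinitePresentation Γ(Y, W) Γ(M, W) := Module.finitePresentation_of_finite _ _
  letI := Groth.L20.ModStalk.stalkModule M hyW
  haveI := Groth.L20.ModStalk.isLocalizedModule_germ M hW hyW
  letI := Y.presheaf.algebra_section_stalk (⟨y, hyW⟩ : W)
  haveI := hW.isLocalization_stalk ⟨y, hyW⟩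
  haveI : IsScalarTower Γ(Y, W) (Y.presheaf.stalk y) (M.presheaf.stalk y) :=
    IsScalarTower.of_algebraMap_smul fun _ _ => rfl
  haveI : Module.Free (Y.presheaf.stalk y) (M.presheaf.stalk y) := h
  let p := (hW.primeIdealOf ⟨y, hyW⟩).asIdeal
  obtain ⟨r, hr, hfree, -⟩ := Module.FinitePresentation.exists_free_localizedModule_powers
    p.primeCompl (Groth.L20.ModStalk.germₗ M hyW) (Y.presheaf.stalk y)
  haveI : Nontrivial (Localization (Submonoid.powers r)) :=
    (show Localization (Submonoid.powers r) →+* Localization.AtPrime p from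
      IsLocalization.map (M := Submonoid.powers r) (T := p.primeCompl) _ (RingHom.id _)
        (Submonoid.powers_le.mpr hr)).domain_nontrivial
  haveI : Module.Free (Localization (Submonoid.powers r)) (LocalizedModule.Away r Γ(X, π ⁻¹ᵁ W)) := hfree
  obtain ⟨n, x, h1, h2⟩ := exists_basisAway_of_free (A := Γ(Y, W)) (B := Γ(X, π ⁻¹ᵁ W)) r
  refine ⟨Y.basicOpen r, n, _, hW.basicOpen r, ?_, IsBasisAway.isGoodBasis hW (x := x) (r := r) ⟨h1, h2⟩⟩
  have h' : hW.primeIdealOf ⟨y, hyW⟩ ∈ hW.fromSpec ⁻¹ᵁ Y.basicOpen r := by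
    rw [hW.fromSpec_preimage_basicOpen]; exact hr
  have h'' : hW.fromSpec (hW.primeIdealOf ⟨y, hyW⟩) ∈ Y.basicOpen r := h'
  rwa [hW.fromSpec_primeIdealOf] at h''

theorem appLE_congr_hom {S T : Scheme.{u}} {f g : S ⟶ T} (e : f = g) {U : T.Opens} {V : S.Opens} (h : V ≤ f ⁻¹ᵁ U)
    (h' : V ≤ g ⁻¹ᵁ U) : f.appLE U V h = g.appLE U V h' := by
  subst e; rfl

/-- A basis on an affine open restricts to a closed subscheme. -/
theorem exists_goodBasis_closed [IsAffineHom π] (I : Y.IdealSheafData) {V : Y.Opens} (hV : IsAffineOpen V) {n : ℕ}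
    {d : Fin n → Γ(X, π ⁻¹ᵁ V)} (hd : IsGoodBasis π d) {z : I.subscheme} (hz : I.subschemeι z ∈ V) :
    ∃ (O : I.subscheme.Opens) (k : ℕ) (c : Fin k → Γ(pullback π I.subschemeι, pullback.snd π I.subschemeι ⁻¹ᵁ O)),
      z ∈ O ∧ IsGoodBasis (pullback.snd π I.subschemeι) c := by
  let i := I.subschemeι
  let q := pullback.snd π i
  let j := pullback.fst π i
  haveI : IsAffineHom q := MorphismProperty.pullback_snd _ _ inferInstance
  let P := i ⁻¹ᵁ V
  have hP : IsAffineOpen P := hV.preimage i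
  have hjV : j ⁻¹ᵁ (π ⁻¹ᵁ V) = q ⁻¹ᵁ P := by
    rw [← Scheme.Hom.comp_preimage, pullback.condition, Scheme.Hom.comp_preimage]
  let φ : Γ(X, π ⁻¹ᵁ V) →+* Γ(pullback π i, q ⁻¹ᵁ P) := (j.appLE (π ⁻¹ᵁ V) (q ⁻¹ᵁ P) hjV.ge).hom
  have hφsurj : Function.Surjective φ := by
    intro b
    obtain ⟨a, ha⟩ := j.app_surjective (π ⁻¹ᵁ V) (hV.preimage π)
      ((pullback π i).presheaf.map (eqToHom hjV).op b)
    refine ⟨a, ?_⟩
    show (j.app _ ≫ (pullback π i).presheaf.map (homOfLE hjV.ge).op).hom a = b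
    rw [CommRingCat.comp_apply]
    show (pullback π i).presheaf.map (homOfLE hjV.ge).op (j.app _ a) = b
    rw [ha, ← CommRingCat.comp_apply, ← Functor.map_comp, Subsingleton.elim ((eqToHom hjV).op ≫ (homOfLE hjV.ge).op) (𝟙 _),
      CategoryTheory.Functor.map_id]
    rfl
  have hφker : ∀ b, φ b = 0 → b ∈ (I.ideal ⟨V, hV⟩).map (π.app V).hom := fun b hb => by
    rw [π.app_eq_appLE, ← Groth.L22.Ideals.comap_ideal π I ⟨V, hV⟩ ⟨π ⁻¹ᵁ V, hV.preimage π⟩ le_rfl,
      show I.comap π = j.ker from rfl, Scheme.Hom.ker_apply, RingHom.mem_ker]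
    refine (map_eq_zero_iff ((pullback π i).presheaf.map (homOfLE hjV.ge).op).hom ?_).1 hb
    exact (ConcreteCategory.bijective_of_isIso ((pullback π i).presheaf.map (eqToHom hjV.symm).op)).1
  have hφapp : ∀ a, φ (π.app V a) = q.app P (i.app V a) := fun a => by
    show (π.app V ≫ j.appLE (π ⁻¹ᵁ V) (q ⁻¹ᵁ P) hjV.ge).hom a = (i.app V ≫ q.app P).hom a
    rw [Scheme.Hom.app_eq_appLE π, Scheme.Hom.appLE_comp_appLE, Scheme.Hom.app_eq_appLE i,
      Scheme.Hom.app_eq_appLE q, Scheme.Hom.appLE_comp_appLE]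
    have e : j ≫ π = q ≫ i := pullback.condition
    rw [appLE_congr_hom e]
  have hsum : ∀ b, ∃ a : Fin n → Γ(Y, V), b = ∑ k, π.app V (a k) * d k := fun b => by
    obtain ⟨a, ha⟩ := (hd V le_rfl).2 b
    exact ⟨a, by rw [← ha]; simp only [ro_self]⟩
  refine ⟨I.subscheme.basicOpen (1 : Γ(I.subscheme, P)), n, _, ?_,
    IsBasisAway.isGoodBasis hP (x := fun k => φ (d k)) (r := 1) ⟨fun b => ?_, fun a ha => ?_⟩⟩
  · rw [Scheme.basicOpen_of_isUnit _ isUnit_one]; exact hz
  · obtain ⟨b, rfl⟩ := hφsurj b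
    obtain ⟨a, rfl⟩ := hsum b
    refine ⟨0, fun k => i.app V (a k), ?_⟩
    rw [pow_zero, map_one, one_mul, map_sum]
    exact Finset.sum_congr rfl fun k _ => by rw [map_mul, hφapp]
  · choose a' ha' using fun k => i.app_surjective V hV (a k)
    have h0 : φ (∑ k, π.app V (a' k) * d k) = 0 := by
      rw [map_sum, ← ha]
      exact Finset.sum_congr rfl fun k _ => by rw [map_mul, hφapp, ha']
    obtain ⟨v, hv, hve⟩ : ∃ v : Fin n → Γ(Y, V), (∀ k, v k ∈ I.ideal ⟨V, hV⟩) ∧
        ∑ k, π.app V (a' k) * d k = ∑ k, π.app V (v k) * d k := by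
      have hm := hφker _ h0
      generalize ∑ k, π.app V (a' k) * d k = s at hm ⊢
      induction hm using Submodule.span_induction with
      | mem s hs =>
        obtain ⟨t, ht, rfl⟩ := hs
        obtain ⟨w, hw⟩ := hsum 1
        refine ⟨fun k => t * w k, fun k => Ideal.mul_mem_right _ _ ht, ?_⟩
        simp only [map_mul, mul_assoc, ← Finset.mul_sum, ← hw, mul_one]
      | zero => exact ⟨0, fun k => Ideal.zero_mem _, by simp⟩
      | add s s' _ _ hs hs' =>
        obtain ⟨v, hv, rfl⟩ := hs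
        obtain ⟨v', hv', rfl⟩ := hs'
        exact ⟨v + v', fun k => Ideal.add_mem _ (hv k) (hv' k), by simp [add_mul, Finset.sum_add_distrib]⟩
      | smul t s _ hs =>
        obtain ⟨v, hv, rfl⟩ := hs
        choose w hw using fun k => hsum (t * d k)
        refine ⟨fun l => ∑ k, v k * w k l, fun l => Ideal.sum_mem _ fun k _ => Ideal.mul_mem_right _ _ (hv k), ?_⟩
        simp only [smul_eq_mul, Finset.mul_sum, map_sum, map_mul, Finset.sum_mul]
        rw [Finset.sum_comm]
        refine Finset.sum_congr rfl fun k _ => ?_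
        rw [show t * (π.app V (v k) * d k) = π.app V (v k) * (t * d k) by ring, hw k, Finset.mul_sum]
        exact Finset.sum_congr rfl fun l _ => by ring
    refine ⟨0, fun k => ?_⟩
    have h3 : a' = v := (hd V le_rfl).1 (by simpa only [ro_self] using hve)
    rw [pow_zero, one_mul, ← ha' k, h3, ← RingHom.mem_ker]
    exact (Scheme.IdealSheafData.ker_subschemeι_app I ⟨V, hV⟩).ge (hv k)

/-- A homeomorphic closed immersion induces an isomorphism on stalks at reduced points. -/
theorem bijective_stalkMap {Z : Scheme.{u}} (i : Z ⟶ Y) [IsClosedImmersion i] (hi : IsHomeomorph i.base) (z : Z)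
    [_root_.IsReduced (Y.presheaf.stalk (i z))] : Function.Bijective (i.stalkMap z) := by
  refine ⟨?_, i.stalkMap_surjective z⟩
  rw [injective_iff_map_eq_zero]
  intro s hs
  obtain ⟨U, hzU, a, rfl⟩ := Y.presheaf.exists_germ_eq s
  change (i.stalkMap z) (Y.presheaf.germ U (i z) hzU a) = 0 at hs
  rw [Scheme.Hom.germ_stalkMap_apply] at hs
  obtain ⟨O, hzO, ι₁, ι₂, he⟩ := Z.presheaf.germ_eq z (U := i ⁻¹ᵁ U) (V := i ⁻¹ᵁ U) hzU hzU (i.app U a) 0
    (hs.trans (map_zero _).symm)
  rw [map_zero] at he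
  obtain ⟨O', hO', hOeq⟩ := hi.isEmbedding.isInducing.isOpen_iff.1 O.2
  have hzO' : i z ∈ O' := hOeq.ge hzO
  obtain ⟨W, hW, hzW, hWU⟩ := exists_isAffineOpen_mem_and_subset (U := U ⊓ ⟨_, hO'⟩) (x := i z) ⟨hzU, hzO'⟩
  have h0 : i.app W (rh (fun x hx => (hWU hx).1 : W ≤ U) a) = 0 := by
    rw [app_rh]
    have h' := congrArg (rh (fun x hx => hOeq.le (hWU hx).2 : i ⁻¹ᵁ W ≤ O)) he
    rw [map_zero] at h'
    refine Eq.trans ?_ h'
    exact (rh_rh _ _ _).symm
  have hb : Y.basicOpen (rh (fun x hx => (hWU hx).1 : W ≤ U) a) = ⊥ := by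
    refine le_bot_iff.1 fun x hx => ?_
    obtain ⟨z', rfl⟩ := hi.surjective x
    have h1 : z' ∈ i ⁻¹ᵁ Y.basicOpen (rh (fun x hx => (hWU hx).1 : W ≤ U) a) := hx
    rw [Scheme.preimage_basicOpen, h0, Scheme.basicOpen_zero] at h1
    exact h1.elim
  have hn := ((Scheme.isNilpotent_iff_basicOpen_eq_bot_of_isCompact hW.isCompact _).2 hb).map
    (Y.presheaf.germ W (i z) hzW).hom
  change IsNilpotent (Y.presheaf.germ W (i z) hzW (Y.presheaf.map (homOfLE _).op a)) at hn
  rw [TopCat.Presheaf.germ_res_apply] at hn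
  exact hn.eq_zero

end Groth.L07.RelAmp
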