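import Groth.Agent.L07.RelAmp.Lift
import Groth.Agent.S0021
import Groth.Agent.L18.AmpleAvoid
import Groth.Agent.L16.Rees.FiniteAmple
import Groth.Agent.L17.ProperOver
import Groth.Agent.L22.Ideal

/-!
Ampleness descends along a finite surjective morphism which is good outside a closed subset proper over the base.
-/

set_option autoImplicit false
set_option backward.isDefEq.respectTransparency false
set_option backward.isDefEq.respectTransparency.types false
set_option linter.style.haveILetI false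
universe u

open CategoryTheory CategoryTheory.Limits AlgebraicGeometry TopologicalSpace Opposite

noncomputable section

namespace Groth.L07.RelAmp

open Groth.L18.Frame (rs ro rs_rs rs_self rs_smul ro_ro ro_self IsFrame pull pull_rs pull_smul)
open Groth.L18.NormFree (app_ro)
open Groth.L18.NormDesc (pf pf_rs pf_smul isFrame_pf)
open Groth.L18.GenLoc Groth.L18.Ample

variable {X : Scheme.{u}} {ι : Type} {U : ι → X.Opens} {u : ∀ i l, Γ(X, U i ⊓ U l)}

/-- The transition functions to a power. -/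
def powTr (u : ∀ i l, Γ(X, U i ⊓ U l)) (n : ℕ) : ∀ i l, Γ(X, U i ⊓ U l) := fun i l => u i l ^ n

theorem isTup_powTr {n d : ℕ} {b : Tup U} : IsTup (powTr u n) d b ↔ IsTup u (n * d) b := by
  simp only [IsTup, powTr, ← pow_mul]

theorem loc_pow (b : Tup U) {n : ℕ} (hn : 0 < n) : loc (b ^ n) = loc b :=
  iSup_congr fun i => X.basicOpen_pow (b i) hn

theorem loc_mul (hu : ∀ i l, IsUnit (u i l)) (hcov : ∀ x, ∃ i, x ∈ U i) {d d' : ℕ} {a b : Tup U}
    (ha : IsTup u d a) (hb : IsTup u d' b) : loc (a * b) = loc a ⊓ loc b := by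
  refine Opens.ext (Set.ext fun x => ?_)
  obtain ⟨i, hi⟩ := hcov x
  have h1 := SetLike.ext_iff.1 (loc_inf hu (ha.mul hb) i) x
  rw [Pi.mul_apply, Scheme.basicOpen_mul, ← loc_inf hu ha i, ← loc_inf hu hb i] at h1
  exact ⟨fun h => ⟨(h1.1 ⟨h, hi⟩).1.1, (h1.1 ⟨h, hi⟩).2.1⟩, fun h => (h1.2 ⟨⟨h.1, hi⟩, ⟨h.2, hi⟩⟩).1⟩

/-- A trivialisation of a module on the cover, with its transition functions. -/
structure Frames (Q : X.Modules) (U : ι → X.Opens) (u : ∀ i l, Γ(X, U i ⊓ U l)) where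
  e : ∀ i, Γ(Q, U i)
  he : ∀ i, IsFrame Q (U i) (e i)
  htr : ∀ i l, rs Q (inf_le_right : U i ⊓ U l ≤ U l) (e l) = u i l • rs Q (inf_le_left : U i ⊓ U l ≤ U i) (e i)
  hcov : ∀ x, ∃ i, x ∈ U i

variable {Q : X.Modules} (F : Frames Q U u)

include F in
theorem Frames.isUnit (i l : ι) : IsUnit (u i l) := by
  refine Groth.L18.Frame.isUnit_of_isFrame ((F.he i).mono (inf_le_left : U i ⊓ U l ≤ U i)) ?_
  rw [← F.htr i l]
  exact (F.he l).mono inf_le_right

theorem Frames.isTup (s : Coh.structureModule X ⟶ Q) (b : Tup U)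
    (hb : ∀ i, b i • F.e i = rs Q le_top (secOf s)) : IsTup u 1 b := fun i l => by
  have h1 := congrArg (rs Q (inf_le_left : U i ⊓ U l ≤ U i)) (hb i)
  have h2 := congrArg (rs Q (inf_le_right : U i ⊓ U l ≤ U l)) (hb l)
  rw [rs_smul, rs_rs] at h1
  rw [rs_smul, rs_rs, F.htr i l, ← mul_smul, ← h1] at h2
  have h3 := ((F.he i).mono (inf_le_left : U i ⊓ U l ≤ U i)).inj le_rfl
    (a := ro (inf_le_right : U i ⊓ U l ≤ U l) (b l) * u i l) (b := ro (inf_le_left : U i ⊓ U l ≤ U i) (b i))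
    (by rw [rs_self]; exact h2)
  rw [pow_one, rh_eq_ro, rh_eq_ro, ← h3, mul_comm]

theorem Frames.exists_tup (s : Coh.structureModule X ⟶ Q) :
    ∃ b : Tup U, (∀ i, b i • F.e i = rs Q le_top (secOf s)) ∧ IsTup u 1 b ∧ CohB1.genLocus _ s = loc b := by
  choose b hb using fun i => (F.he i).exists_coeff le_rfl (rs Q (le_top : U i ≤ ⊤) (secOf s))
  simp only [rs_self] at hb
  refine ⟨b, hb, F.isTup s b hb, Opens.ext (Set.ext fun x => ?_)⟩
  obtain ⟨i, hi⟩ := F.hcov x
  have h := SetLike.ext_iff.1 ((genLocus_inf_eq s (F.he i) (hb i)).trans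
    (loc_inf F.isUnit (F.isTup s b hb) i).symm) x
  exact ⟨fun hx => (h.1 ⟨hx, hi⟩).1, fun hx => (h.2 ⟨hx, hi⟩).1⟩

theorem Frames.exists_sec {b : Tup U} (hb : IsTup u 1 b) :
    ∃ s : Coh.structureModule X ⟶ Q, (∀ i, b i • F.e i = rs Q le_top (secOf s)) ∧ CohB1.genLocus _ s = loc b := by
  obtain ⟨σ, hσ, -⟩ := TopCat.Sheaf.existsUnique_gluing'
    (⟨Q.presheaf, Q.isSheaf⟩ : TopCat.Sheaf Ab X.toTopCat) U ⊤ (fun i => homOfLE le_top)
    (fun x _ => Opens.mem_iSup.2 (F.hcov x)) (fun i => (show Γ(Q, U i) from b i • F.e i)) fun i l => by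
      show rs Q (inf_le_left : U i ⊓ U l ≤ U i) (b i • F.e i) = rs Q (inf_le_right : U i ⊓ U l ≤ U l) (b l • F.e l)
      rw [rs_smul, rs_smul, F.htr i l, ← mul_smul]
      congr 1
      rw [← rh_eq_ro, ← rh_eq_ro, hb i l, pow_one, mul_comm]
  have hs : ∀ i, b i • F.e i = rs Q le_top (secOf (Groth.L16.homOfSection Q σ)) := fun i => by
    rw [secOf_homOfSection]; exact (hσ i).symm
  refine ⟨_, hs, Opens.ext (Set.ext fun x => ?_)⟩
  obtain ⟨i, hi⟩ := F.hcov x
  have h := SetLike.ext_iff.1 ((genLocus_inf_eq _ (F.he i) (hs i)).trans (loc_inf F.isUnit hb i).symm) x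
  exact ⟨fun hx => (h.1 ⟨hx, hi⟩).1, fun hx => (h.2 ⟨hx, hi⟩).1⟩

/-- Pulled back trivialisation. -/
def Frames.pullback {T : Scheme.{u}} (j : T ⟶ X) :
    Frames ((Scheme.Modules.pullback j).obj Q) (fun i => j ⁻¹ᵁ U i) (fun i l => j.app (U i ⊓ U l) (u i l)) where
  e i := pull j Q (U i) (F.e i)
  he i := (F.he i).pullback j Q
  htr i l := by
    show rs _ (pre (π := j) (inf_le_right : U i ⊓ U l ≤ U l)) (pull j Q (U l) (F.e l)) =
      j.app (U i ⊓ U l) (u i l) • rs _ (pre (π := j) (inf_le_left : U i ⊓ U l ≤ U i)) (pull j Q (U i) (F.e i))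
    rw [pull_rs j Q inf_le_right, pull_rs j Q inf_le_left, F.htr i l, pull_smul]
  hcov t := F.hcov (j t)

/-- Trivialisation of a power. -/
def Frames.pow (n : ℕ) : Frames (CohB1.tensorPow Q n) U (powTr u n) where
  e i := pf (F.e i) n
  he i := isFrame_pf (F.he i) n
  htr i l := by rw [pf_rs, pf_rs, F.htr i l, pf_smul]; rfl
  hcov := F.hcov

section
variable {Y : Scheme.{u}} {π : X ⟶ Y}

theorem mem_of_mem_map {W : Y.Opens} (hW : IsAffineOpen W) (I : Ideal Γ(Y, W)) {b : Γ(X, π ⁻¹ᵁ W)}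
    (hb : b ∈ I.map (π.app W).hom) {x : X} (hx : x ∈ X.basicOpen b) : ∃ j ∈ I, π x ∈ Y.basicOpen j := by
  by_contra hcon
  push Not at hcon
  have hxW : x ∈ π ⁻¹ᵁ W := X.basicOpen_le b hx
  have h : I.map (π.app W).hom ≤ (IsLocalRing.maximalIdeal _).comap (X.presheaf.germ (π ⁻¹ᵁ W) x hxW).hom :=
    Ideal.map_le_iff_le_comap.2 fun j hj => (IsLocalRing.mem_maximalIdeal _).2 fun hu => hcon j hj (by
      have hx' := (X.mem_basicOpen _ x hxW).2 hu
      rw [← Scheme.preimage_basicOpen] at hx'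
      exact hx')
  exact (IsLocalRing.mem_maximalIdeal _).1 (h hb) ((X.mem_basicOpen b x hxW).1 hx)

theorem mem_vanishingIdeal_zero {Z : Closeds Y} {W : Y.Opens} (hW : IsAffineOpen W) {y : Y} (hy : y ∈ W) :
    y ∈ Z ↔ ∀ j ∈ (Scheme.IdealSheafData.vanishingIdeal Z).ideal ⟨W, hW⟩, y ∉ Y.basicOpen j := by
  rw [← SetLike.mem_coe, ← Scheme.IdealSheafData.coe_support_vanishingIdeal Z, SetLike.mem_coe,
    Scheme.IdealSheafData.mem_support_iff_of_mem (U := ⟨W, hW⟩) hy, Scheme.mem_zeroLocus_iff]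
  rfl

theorem exists_pow_mem_map [IsAffineHom π] (Z : Closeds Y) {W : Y.Opens} (hW : IsAffineOpen W) (M : ℕ)
    (b : Γ(X, π ⁻¹ᵁ W)) (hb : ∀ x ∈ X.basicOpen b, π x ∉ Z) :
    ∃ k, b ^ k ∈ (((Scheme.IdealSheafData.vanishingIdeal Z).ideal ⟨W, hW⟩) ^ M).map (π.app W).hom := by
  show b ∈ Ideal.radical _
  rw [Ideal.radical_eq_sInf, Submodule.mem_sInf]
  rintro p ⟨hp, hpp⟩
  by_contra hbp
  have hWX := hW.preimage π
  let x := hWX.fromSpec ⟨p, hpp⟩
  have key : ∀ f : Γ(X, π ⁻¹ᵁ W), x ∈ X.basicOpen f ↔ f ∉ p := fun f => by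
    show ⟨p, hpp⟩ ∈ hWX.fromSpec ⁻¹ᵁ X.basicOpen f ↔ _
    rw [hWX.fromSpec_preimage_basicOpen]
    rfl
  have hxb := (key b).2 hbp
  refine hb x hxb ((mem_vanishingIdeal_zero hW (show π x ∈ W from X.basicOpen_le b hxb)).2 fun j hj hxj => ?_)
  have h1 : π.app W (j ^ M) ∈ p := hp (Ideal.mem_map_of_mem _ (Ideal.pow_mem_pow hj M))
  rw [map_pow] at h1
  refine (key (π.app W j)).1 ?_ (hpp.mem_of_pow_mem M h1)
  rw [← Scheme.preimage_basicOpen]
  exact hxj

/-- The closure of the points over the generic points maps finitely onto the target. -/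
theorem exists_mem_closure [Surjective π] [UniversallyClosed π] (y : Y) :
    ∃ x ∈ closure (π ⁻¹' genericPoints Y), π x = y := by
  obtain ⟨η, hη, hηy⟩ := Groth.L18.NormMixed.exists_genericPoint_specializes y
  obtain ⟨ξ, hξ⟩ := π.surjective η
  have h1 : y ∈ π '' closure ({ξ} : Set X) := by
    rw [← π.isClosedMap.closure_image_eq_of_continuous π.continuous, Set.image_singleton, hξ]
    exact specializes_iff_mem_closure.1 hηy
  obtain ⟨x, hx, rfl⟩ := h1
  exact ⟨x, closure_mono (t := π ⁻¹' genericPoints Y) (Set.singleton_subset_iff.2 (show π ξ ∈ genericPoints Y by rw [hξ]; exact hη)) hx, rfl⟩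

/-- A non-vanishing locus on the target is affine when a detecting locus on the source is. -/
theorem isAffineOpen_of_detect [IsNoetherian Y] [IsFinite π] [Surjective π] {N : Y.Modules}
    (hN : PicF.IsInvertible N) (σ : Coh.structureModule Y ⟶ N) (G : X.Opens) (hG : IsAffineOpen G)
    (h : ∀ x ∈ closure (π ⁻¹' genericPoints Y), π x ∈ CohB1.genLocus _ σ → x ∈ G) :
    IsAffineOpen (CohB1.genLocus _ σ) := by
  let D := Scheme.IdealSheafData.vanishingIdeal (⟨closure (π ⁻¹' genericPoints Y), isClosed_closure⟩ : Closeds X)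
  let q := D.subschemeι ≫ π
  have hr : Set.range D.subschemeι = closure (π ⁻¹' genericPoints Y) := Groth.L17.ProperOver.range_ι _
  haveI : Surjective q := ⟨fun y => by
    obtain ⟨x, hx, rfl⟩ := exists_mem_closure (π := π) y
    obtain ⟨d, rfl⟩ := hr.ge hx
    exact ⟨d, rfl⟩⟩
  set O := CohB1.genLocus _ σ
  have haff : IsAffineOpen (q ⁻¹ᵁ O) := by
    have h1 := isAffineOpen_genLocus_inf (isInvertible_pullback q hN) (pullHom q σ) (hG.preimage D.subschemeι)
    rw [genLocus_pullHom q hN σ] at h1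
    rwa [inf_eq_left.2 fun d hd => h _ (hr.le ⟨d, rfl⟩) hd] at h1
  haveI : IsAffine (q ⁻¹ᵁ O).toScheme := haff
  haveI : Surjective (q ∣_ O) := MorphismProperty.of_isPullback (P := @Surjective)
    (isPullback_morphismRestrict q O).flip inferInstance
  haveI : CompactSpace O.toScheme := isCompact_iff_compactSpace.1 (NoetherianSpace.isCompact _)
  haveI : AlgebraicGeometry.IsNoetherian O.toScheme := {}
  exact Groth.Agent.S0021.result (q ∣_ O)

end

end Groth.L07.RelAmp
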