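import Groth.Agent.L18.NormMixed
import Mathlib.RingTheory.Polynomial.IsIntegral

/-!
Universal norms of a finite morphism on an affine open and the ideal extending their coefficients.
-/

set_option autoImplicit false
set_option backward.isDefEq.respectTransparency false
set_option backward.isDefEq.respectTransparency.types false
set_option linter.style.haveILetI false
universe u

open CategoryTheory CategoryTheory.Limits AlgebraicGeometry TopologicalSpace Opposite

noncomputable section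

namespace Groth.L07.RelAmp

open Groth.L18.Frame (rs ro ro_ro ro_self ro_mul)
open Groth.L18.NormFree Groth.L18.NormMixed

attribute [local instance] MvPolynomial.algebraMvPolynomial

variable {X Y : Scheme.{u}}

/-- The restriction homomorphism. -/
abbrev rh {U V : Y.Opens} (h : V ≤ U) : Γ(Y, U) →+* Γ(Y, V) := (Y.presheaf.map (homOfLE h).op).hom

theorem rh_eq_ro {U V : Y.Opens} (h : V ≤ U) (a : Γ(Y, U)) : rh h a = ro h a := rfl

theorem rh_rh {U V V' : Y.Opens} (h : V ≤ U) (h' : V' ≤ V) (a : Γ(Y, U)) : rh h' (rh h a) = rh (h'.trans h) a :=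
  ro_ro _ _ a

theorem rh_comp {U V V' : Y.Opens} (h : V ≤ U) (h' : V' ≤ V) :
    (rh h').comp (rh h) = rh (h'.trans h) := RingHom.ext fun a => rh_rh h h' a

theorem map_rh_rh {σ : Type*} {U V V' : Y.Opens} (h : V ≤ U) (h' : V' ≤ V) (P : MvPolynomial σ Γ(Y, U)) :
    MvPolynomial.map (rh h') (MvPolynomial.map (rh h) P) = MvPolynomial.map (rh (h'.trans h)) P := by
  rw [MvPolynomial.map_map, rh_comp]

theorem eq_of_generic [IsReduced Y] {U : Y.Opens} {a b : Γ(Y, U)}
    (h : ∀ η ∈ genericPoints Y, η ∈ U → ∃ (O : Y.Opens) (hO : O ≤ U), η ∈ O ∧ rh hO a = rh hO b) : a = b := by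
  refine sub_eq_zero.1 ((basicOpen_eq_bot_iff _).1 (le_bot_iff.1 fun y hy => ?_))
  obtain ⟨η, hη, hηy⟩ := exists_genericPoint_specializes y
  have hηd : η ∈ Y.basicOpen (a - b) := hηy.mem_open (Y.basicOpen (a - b)).2 hy
  obtain ⟨O, hO, hηO, e⟩ := h η hη (Y.basicOpen_le _ hηd)
  have h0 : rh hO (a - b) = 0 := by rw [map_sub, e, sub_self]
  have h1 := congrArg Y.basicOpen h0
  rw [Scheme.basicOpen_zero, Scheme.basicOpen_res] at h1
  exact (h1.le ⟨hηO, hηd⟩).elim

theorem eq_zero_of_basicOpen_le [IsReduced Y] {U O : Y.Opens} {d : Γ(Y, U)} (hO : O ≤ U)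
    (hd : Y.basicOpen d ≤ O) (h0 : rh hO d = 0) : d = 0 := by
  refine (basicOpen_eq_bot_iff _).1 (le_bot_iff.1 fun y hy => ?_)
  have h1 := congrArg Y.basicOpen h0
  rw [Scheme.basicOpen_zero, Scheme.basicOpen_res] at h1
  exact h1.le ⟨hd hy, hy⟩

variable (π : X ⟶ Y)

/-- Bases near the generic points, with a common degree. -/
structure GenBases where
  V : genericPoints Y → Y.Opens
  n : genericPoints Y → ℕ
  c : ∀ η, Fin (n η) → Γ(X, π ⁻¹ᵁ V η)
  mem : ∀ η, η.1 ∈ V η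
  good : ∀ η, IsGoodBasis π (c η)
  m : ℕ
  pos : 0 < m
  dvd : ∀ (V : Y.Opens) (k : ℕ) (d : Fin k → Γ(X, π ⁻¹ᵁ V)), IsGoodBasis π d → (V : Set Y).Nonempty →
    0 < k ∧ k ∣ m

theorem exists_genBases [IsNoetherian Y] [IsReduced Y] [IsFinite π] [Surjective π] :
    Nonempty (GenBases π) := by
  classical
  choose Vg ng cg hηg hcg using fun η : genericPoints Y => exists_goodBasis_genericPoint (π := π) η.2
  haveI : Fintype (genericPoints Y) := finite_genericPoints.fintype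
  have hpos : ∀ η, 0 < ng η := fun η => by
    obtain ⟨x, hx⟩ := π.surjective η.1
    exact pos_rank (hcg η) (show π x ∈ Vg η by rw [hx]; exact hηg η)
  refine ⟨⟨Vg, ng, cg, hηg, hcg, ∏ η, ng η, Finset.prod_pos fun η _ => hpos η, ?_⟩⟩
  rintro V k d hd ⟨z, hz⟩
  obtain ⟨η, hη, hηz⟩ := exists_genericPoint_specializes z
  have hηV : η ∈ V := hηz.mem_open V.2 hz
  haveI : Nontrivial Γ(Y, V ⊓ Vg ⟨η, hη⟩) := by
    refine ⟨⟨0, 1, fun h => ?_⟩⟩
    have h1 := congrArg Y.basicOpen h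
    rw [Scheme.basicOpen_zero, Y.basicOpen_of_isUnit isUnit_one] at h1
    exact (h1.ge ⟨hηV, hηg ⟨η, hη⟩⟩).elim
  rw [eq_rank hd (hcg ⟨η, hη⟩) (V := V ⊓ Vg ⟨η, hη⟩) inf_le_left inf_le_right]
  exact ⟨hpos _, Finset.dvd_prod_of_mem _ (Finset.mem_univ _)⟩

variable {π}

theorem GenBases.div_pos (G : GenBases π) {V : Y.Opens} {k : ℕ} {d : Fin k → Γ(X, π ⁻¹ᵁ V)}
    (hd : IsGoodBasis π d) (hV : (V : Set Y).Nonempty) : 0 < G.m / k :=
  Nat.div_pos (Nat.le_of_dvd G.pos (G.dvd V k d hd hV).2) (G.dvd V k d hd hV).1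

section
variable {W : Y.Opens} {r : ℕ}

/-- The preimages of smaller opens. -/
theorem pre {U V : Y.Opens} (h : V ≤ U) : π ⁻¹ᵁ V ≤ π ⁻¹ᵁ U := fun _ hx => h hx

/-- The universal element of the finite module generated by `1` and `x`. -/
def uEl (x : Fin r → Γ(X, π ⁻¹ᵁ W)) {V : Y.Opens} (h : V ≤ W) :
    MvPolynomial (Option (Fin r)) Γ(X, π ⁻¹ᵁ V) :=
  MvPolynomial.X none + ∑ i, MvPolynomial.X (some i) * MvPolynomial.C (ro (pre (π := π) h) (x i))

/-- Its norm. -/
def uNrm (x : Fin r → Γ(X, π ⁻¹ᵁ W)) {V : Y.Opens} (h : V ≤ W) :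
    MvPolynomial (Option (Fin r)) Γ(Y, V) :=
  letI := (π.app V).hom.toAlgebra
  Algebra.norm (MvPolynomial (Option (Fin r)) Γ(Y, V)) (uEl x h)

theorem exists_mvBasis {σ : Type} {W₁ : Y.Opens} {n : ℕ} {c : Fin n → Γ(X, π ⁻¹ᵁ W₁)} (hc : IsGoodBasis π c)
    {V : Y.Opens} (h : V ≤ W₁) :
    letI := (π.app V).hom.toAlgebra
    ∃ b : Module.Basis (Fin n) (MvPolynomial σ Γ(Y, V)) (MvPolynomial σ Γ(X, π ⁻¹ᵁ V)),
      ∀ i, b i = MvPolynomial.C (ro (pre (π := π) h) (c i)) := by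
  classical
  letI := (π.app V).hom.toAlgebra
  let L : (Fin n → MvPolynomial σ Γ(Y, V)) →ₗ[MvPolynomial σ Γ(Y, V)] MvPolynomial σ Γ(X, π ⁻¹ᵁ V) :=
    Fintype.linearCombination _ fun i => MvPolynomial.C (ro (pre (π := π) h) (c i))
  have hco : ∀ P α, MvPolynomial.coeff α (L P) =
      ∑ i, π.app V (MvPolynomial.coeff α (P i)) * ro (pre (π := π) h) (c i) := fun P α => by
    simp only [L, Fintype.linearCombination_apply, Algebra.smul_def, MvPolynomial.coeff_sum]
    refine Finset.sum_congr rfl fun i _ => ?_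
    rw [mul_comm, MvPolynomial.coeff_C_mul, mul_comm, MvPolynomial.algebraMap_def, MvPolynomial.coeff_map]
    rfl
  have hL : Function.Bijective L := by
    refine ⟨fun P Q e => funext fun i => MvPolynomial.ext _ _ fun α => ?_, fun Q => ?_⟩
    · have h1 := congrArg (MvPolynomial.coeff α) e
      rw [hco, hco] at h1
      exact congrFun ((hc V h).1 (a₁ := fun k => MvPolynomial.coeff α (P k))
        (a₂ := fun k => MvPolynomial.coeff α (Q k)) h1) i
    · choose rr hrr using fun α => (hc V h).2 (MvPolynomial.coeff α Q)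
      refine ⟨fun i => ∑ α ∈ Q.support, MvPolynomial.monomial α (rr α i), MvPolynomial.ext _ _ fun α => ?_⟩
      rw [hco]
      by_cases hα : α ∈ Q.support
      · simp only [MvPolynomial.coeff_sum, MvPolynomial.coeff_monomial, Finset.sum_ite_eq', hα, if_true]
        exact hrr α
      · simp only [MvPolynomial.coeff_sum, MvPolynomial.coeff_monomial, Finset.sum_ite_eq', hα, if_false,
          map_zero, zero_mul, Finset.sum_const_zero]
        exact (MvPolynomial.notMem_support_iff.1 hα).symm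
  refine ⟨Module.Basis.ofEquivFun (LinearEquiv.ofBijective L hL).symm, fun i => ?_⟩
  simp [L, Fintype.linearCombination_apply]

theorem map_uEl (x : Fin r → Γ(X, π ⁻¹ᵁ W)) {V V' : Y.Opens} (h : V ≤ W) (h' : V' ≤ V) :
    MvPolynomial.map (X.presheaf.map (homOfLE (pre (π := π) h')).op).hom (uEl x h) = uEl x (h'.trans h) := by
  simp only [uEl, map_add, map_sum, map_mul, MvPolynomial.map_X, MvPolynomial.map_C]
  refine congrArg _ (Finset.sum_congr rfl fun i _ => ?_)
  congr 2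
  exact ro_ro _ _ _

variable (x : Fin r → Γ(X, π ⁻¹ᵁ W)) {W₁ : Y.Opens} {n : ℕ} {c : Fin n → Γ(X, π ⁻¹ᵁ W₁)}

theorem uNrm_res (hc : IsGoodBasis π c) {V V' : Y.Opens} (h : V ≤ W) (h₁ : V ≤ W₁) (h' : V' ≤ V) :
    MvPolynomial.map (rh h') (uNrm x h) = uNrm x (h'.trans h) := by
  letI := (π.app V).hom.toAlgebra
  letI := (π.app V').hom.toAlgebra
  obtain ⟨b, hb⟩ := exists_mvBasis (σ := Option (Fin r)) hc h₁
  obtain ⟨b', hb'⟩ := exists_mvBasis (σ := Option (Fin r)) hc (h'.trans h₁)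
  have := norm_map_of_basis b b' (MvPolynomial.map (rh h'))
    (MvPolynomial.map (X.presheaf.map (homOfLE (pre (π := π) h')).op).hom) (fun p => ?_) (fun i => ?_) (uEl x h)
  · rw [map_uEl x h h'] at this
    exact this.symm
  · rw [MvPolynomial.algebraMap_def, MvPolynomial.algebraMap_def, MvPolynomial.map_map, MvPolynomial.map_map]
    congr 2
    exact RingHom.ext fun a => (app_ro (π := π) h' a).symm
  · rw [hb i, hb' i, MvPolynomial.map_C]
    congr 1
    exact ro_ro _ _ _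

theorem uNrm_eval (hc : IsGoodBasis π c) {V : Y.Opens} (h : V ≤ W) (h₁ : V ≤ W₁)
    (v : Option (Fin r) → Γ(Y, V)) :
    MvPolynomial.eval v (uNrm x h) =
      nrmHom π V (π.app V (v none) + ∑ i, π.app V (v (some i)) * ro (pre (π := π) h) (x i)) := by
  letI := (π.app V).hom.toAlgebra
  obtain ⟨b, hb⟩ := exists_mvBasis (σ := Option (Fin r)) hc h₁
  obtain ⟨b', hb'⟩ := hc.basis h₁
  have := norm_map_of_basis b b' (MvPolynomial.eval v) (MvPolynomial.eval fun k => π.app V (v k))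
    (fun p => ?_) (fun i => ?_) (uEl x h)
  · simp only [uEl, map_add, map_sum, map_mul, MvPolynomial.eval_X, MvPolynomial.eval_C] at this
    exact this.symm
  · rw [MvPolynomial.algebraMap_def, MvPolynomial.eval_map, MvPolynomial.eval₂_comp]
    rfl
  · rw [hb i, hb' i, MvPolynomial.eval_C]

theorem uNrm_pow_congr (hc : IsGoodBasis π c) {W₂ : Y.Opens} {n' : ℕ} {c' : Fin n' → Γ(X, π ⁻¹ᵁ W₂)}
    (hc' : IsGoodBasis π c') {V : Y.Opens} (h : V ≤ W) (h₁ : V ≤ W₁) (h₂ : V ≤ W₂) (m : ℕ) :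
    uNrm x h ^ (m / n) = uNrm x h ^ (m / n') := by
  rcases subsingleton_or_nontrivial Γ(Y, V) with hV | hV
  · exact MvPolynomial.ext _ _ fun α => Subsingleton.elim _ _
  · rw [eq_rank hc hc' h₁ h₂]

/-- Integrality gives a common denominator at a normal point. -/
theorem exists_common_denominator {A R : Type u} [CommRing A] [IsDomain A] [CommRing R] [Algebra A R] {t₀ : A}
    (ht₀ : t₀ ≠ 0) [IsLocalization.Away t₀ R] (p : Ideal A) [p.IsPrime]
    [IsIntegrallyClosed (Localization.AtPrime p)] {ι : Type*} (S : Finset ι) (z : ι → R)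
    (hz : ∀ i ∈ S, IsIntegral A (z i)) :
    ∃ t : A, t ∉ p ∧ ∀ i ∈ S, ∃ a : A, algebraMap A R a = algebraMap A R t * z i := by
  classical
  let K := FractionRing A
  have hunit : IsUnit (algebraMap A K t₀) :=
    IsUnit.mk0 _ ((map_ne_zero_iff _ (IsFractionRing.injective A K)).2 ht₀)
  let ψ₀ : R →+* K := IsLocalization.Away.lift t₀ hunit
  have hψ : Function.Injective ψ₀ := by
    rw [injective_iff_map_eq_zero]
    intro w hw
    obtain ⟨k, a, hka⟩ := IsLocalization.Away.surj t₀ w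
    have h1 := congrArg ψ₀ hka
    rw [map_mul, hw, zero_mul, IsLocalization.Away.lift_eq t₀ hunit] at h1
    rw [(map_eq_zero_iff _ (IsFractionRing.injective A K)).1 h1.symm, map_zero] at hka
    exact ((IsLocalization.Away.algebraMap_isUnit (S := R) t₀).pow k).mul_left_eq_zero.1 hka
  let ψ : R →ₐ[A] K := { ψ₀ with commutes' := fun a => IsLocalization.Away.lift_eq t₀ hunit a }
  letI : Algebra (Localization.AtPrime p) K :=
    IsLocalization.localizationAlgebraOfSubmonoidLe (Localization.AtPrime p) K p.primeCompl (nonZeroDivisors A)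
      (fun x hx => mem_nonZeroDivisors_of_ne_zero fun h => hx (h ▸ p.zero_mem))
  haveI : IsScalarTower A (Localization.AtPrime p) K :=
    IsLocalization.localization_isScalarTower_of_submonoid_le (Localization.AtPrime p) K p.primeCompl
      (nonZeroDivisors A) (fun x hx => mem_nonZeroDivisors_of_ne_zero fun h => hx (h ▸ p.zero_mem))
  haveI : IsFractionRing (Localization.AtPrime p) K :=
    IsFractionRing.isFractionRing_of_isDomain_of_isLocalization p.primeCompl (Localization.AtPrime p) K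
  have key : ∀ i : S, ∃ t : A, t ∉ p ∧ ∃ a : A, algebraMap A R a = algebraMap A R t * z i := by
    intro i
    obtain ⟨w, hw⟩ := IsIntegrallyClosed.isIntegral_iff.1
      (((hz i.1 i.2).map ψ).tower_top (A := Localization.AtPrime p))
    obtain ⟨⟨a, t⟩, hat⟩ := IsLocalization.surj p.primeCompl w
    refine ⟨t.1, t.2, a, hψ ?_⟩
    have h1 := congrArg (algebraMap (Localization.AtPrime p) K) hat
    rw [map_mul, hw, ← IsScalarTower.algebraMap_apply, ← IsScalarTower.algebraMap_apply] at h1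
    rw [show ψ₀ = (ψ : R →+* K) from rfl]
    simp only [RingHom.coe_coe, map_mul, AlgHom.commutes]
    rw [← h1, mul_comm]
  choose t ht a ha using key
  refine ⟨∏ i, t i, fun h => (Ideal.IsPrime.prod_mem_iff.1 h).elim fun i hi => ht i hi.2,
    fun i hi => ⟨(∏ j ∈ Finset.univ.erase ⟨i, hi⟩, t j) * a ⟨i, hi⟩, ?_⟩⟩
  rw [map_mul, ha, ← Finset.mul_prod_erase _ _ (Finset.mem_univ (⟨i, hi⟩ : S)), map_mul]
  ring

section Domain
variable [IsFinite π]

theorem isIntegral_uNrm {W₀ : Y.Opens} (hW₀ : IsAffineOpen W₀) [IsDomain Γ(Y, W₀)] (hle : W₀ ≤ W)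
    {t₀ : Γ(Y, W₀)} (ht₀ : t₀ ≠ 0) (hc : IsGoodBasis π c) (ht₁ : Y.basicOpen t₀ ≤ W₁) (k : ℕ) (α) :
    letI := (rh (Y.basicOpen_le t₀)).toAlgebra
    IsIntegral Γ(Y, W₀)
      (MvPolynomial.coeff α (uNrm x ((Y.basicOpen_le t₀).trans hle) ^ k)) := by
  classical
  set V₀ := Y.basicOpen t₀
  have hV₀ : V₀ ≤ W₀ := Y.basicOpen_le t₀
  letI := (rh hV₀).toAlgebra
  letI := (π.app W₀).hom.toAlgebra
  letI := (π.app V₀).hom.toAlgebra
  haveI : Module.Finite Γ(Y, W₀) Γ(X, π ⁻¹ᵁ W₀) := IsFinite.finite_app π W₀ hW₀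
  haveI : IsLocalization.Away t₀ Γ(Y, V₀) := hW₀.isLocalization_basicOpen t₀
  haveI : IsDomain Γ(Y, V₀) := IsLocalization.isDomain_of_le_nonZeroDivisors (R := Γ(Y, W₀))
    (M := Submonoid.powers t₀) Γ(Y, V₀) (Submonoid.powers_le.2 (mem_nonZeroDivisors_of_ne_zero ht₀))
  let σ := Option (Fin r)
  let A := MvPolynomial σ Γ(Y, W₀)
  let B₀ := MvPolynomial σ Γ(X, π ⁻¹ᵁ W₀)
  have hC : ∀ z : Γ(X, π ⁻¹ᵁ W₀), IsIntegral A (MvPolynomial.C z : B₀) := by
    intro z
    obtain ⟨p, hp, hpz⟩ := IsIntegral.of_finite Γ(Y, W₀) z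
    refine ⟨p.map MvPolynomial.C, hp.map _, ?_⟩
    rw [Polynomial.eval₂_map, show (algebraMap A B₀).comp MvPolynomial.C =
      MvPolynomial.C.comp (algebraMap Γ(Y, W₀) Γ(X, π ⁻¹ᵁ W₀)) from RingHom.ext fun a => MvPolynomial.map_C _ _,
      ← Polynomial.hom_eval₂, hpz, map_zero]
  have hX : ∀ s : σ, IsIntegral A (MvPolynomial.X s : B₀) := fun s => by
    have := isIntegral_algebraMap (R := A) (A := B₀) (x := MvPolynomial.X s)
    rwa [MvPolynomial.algebraMap_def, MvPolynomial.map_X] at this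
  have hel : IsIntegral A (uEl x hle : B₀) := (hX none).add (IsIntegral.sum _ fun i _ => (hX _).mul (hC _))
  obtain ⟨p₀, hp₀, hp₀e⟩ := hel
  obtain ⟨b, -⟩ := exists_mvBasis (σ := σ) hc ht₁
  let B := MvPolynomial σ Γ(Y, V₀)
  let S := MvPolynomial σ Γ(X, π ⁻¹ᵁ V₀)
  let K := FractionRing B
  let ρ : B₀ →+* S := MvPolynomial.map (X.presheaf.map (homOfLE (pre (π := π) hV₀)).op).hom
  let M : Matrix (Fin n) (Fin n) B := Algebra.leftMulMatrix b (uEl x (hV₀.trans hle))
  have hM : Polynomial.eval₂ ((Matrix.scalar (Fin n)).comp (algebraMap A B)) M p₀ = 0 := by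
    have h1 : (Algebra.leftMulMatrix b).toRingHom.comp (ρ.comp (algebraMap A B₀)) =
        (Matrix.scalar (Fin n)).comp (algebraMap A B) := by
      refine RingHom.ext fun a => ?_
      have e : ρ (algebraMap A B₀ a) = algebraMap B S (algebraMap A B a) := by
        show MvPolynomial.map _ (MvPolynomial.map _ a) = MvPolynomial.map _ (MvPolynomial.map _ a)
        rw [MvPolynomial.map_map, MvPolynomial.map_map]
        congr 2
        exact RingHom.ext fun z => (app_ro (π := π) hV₀ z).symm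
      show Algebra.leftMulMatrix b (ρ (algebraMap A B₀ a)) = _
      rw [e, AlgHom.commutes]
      rfl
    have h2 := congrArg ((Algebra.leftMulMatrix b).toRingHom.comp ρ) hp₀e
    rw [Polynomial.hom_eval₂, map_zero, RingHom.comp_assoc, h1] at h2
    rw [RingHom.comp_apply, show ρ (uEl x hle) = uEl x (hV₀.trans hle) from map_uEl x hle hV₀] at h2
    exact h2
  let φ : B →+* K := algebraMap B K
  letI : Algebra A K := (φ.comp (algebraMap A B)).toAlgebra
  let e : Fin n ≃ ULift.{u} (Fin n) := Equiv.ulift.symm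
  let M' : Matrix (ULift.{u} (Fin n)) (ULift.{u} (Fin n)) K := (M.map φ).reindex e e
  have hM' : Polynomial.aeval M' p₀ = 0 := by
    have h3 := congrArg ((Matrix.reindexAlgEquiv K K e).toRingEquiv.toRingHom.comp φ.mapMatrix) hM
    rw [Polynomial.hom_eval₂, map_zero] at h3
    rw [Polynomial.aeval_def]
    refine Eq.trans ?_ h3
    congr 1
    refine RingHom.ext fun a => ?_
    show algebraMap A (Matrix (ULift.{u} (Fin n)) (ULift.{u} (Fin n)) K) a =
      Matrix.reindexAlgEquiv K K e (φ.mapMatrix (Matrix.scalar (Fin n) (algebraMap A B a)))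
    rw [RingHom.mapMatrix_apply, Matrix.scalar_apply, Matrix.diagonal_map (map_zero φ)]
    rw [Matrix.algebraMap_eq_diagonal]
    ext i j
    simp only [Matrix.reindexAlgEquiv_apply, Matrix.reindex_apply, Matrix.submatrix_apply, Matrix.diagonal_apply,
      Equiv.apply_eq_iff_eq]
    rfl
  have hdet : IsIntegral A (φ M.det) := by
    have h4 := Groth.L18.Charpoly.isIntegral_coeff_of_aeval_field M' hp₀ hM' 0
    have h5 : φ M.det = (-1) ^ Fintype.card (Fin n) * M'.charpoly.coeff 0 := by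
      rw [RingHom.map_det, Matrix.det_eq_sign_charpoly_coeff, show M'.charpoly = (φ.mapMatrix M).charpoly from
        Matrix.charpoly_reindex e _]
    rw [h5]
    exact (IsIntegral.pow (isIntegral_one.neg) _).mul h4
  have hB : IsIntegral A M.det := by
    obtain ⟨q, hq, hq0⟩ := hdet
    refine ⟨q, hq, IsFractionRing.injective B K ?_⟩
    rw [map_zero, Polynomial.hom_eval₂]
    exact hq0
  have hN : uNrm x (hV₀.trans hle) = M.det := Algebra.norm_eq_matrix_det b _
  exact MvPolynomial.isIntegral_iff_isIntegral_coeff.1 (hN ▸ hB.pow k) α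

end Domain

variable (G : GenBases π)

/-- The universal norm near a generic point. -/
def genPoly (η : genericPoints Y) : MvPolynomial (Option (Fin r)) Γ(Y, W ⊓ G.V η) :=
  uNrm x (inf_le_left : W ⊓ G.V η ≤ W) ^ (G.m / G.n η)

theorem map_genPoly (η : genericPoints Y) {O : Y.Opens} (h : O ≤ W ⊓ G.V η) :
    MvPolynomial.map (rh h) (genPoly x G η) = uNrm x (h.trans inf_le_left) ^ (G.m / G.n η) := by
  rw [genPoly, map_pow, uNrm_res x (G.good η) inf_le_left inf_le_right h]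

/-- A polynomial over an open restricting to all the universal norms. -/
def IsLocPoly {O : Y.Opens} (hO : O ≤ W) (Φ : MvPolynomial (Option (Fin r)) Γ(Y, O)) : Prop :=
  ∀ η, MvPolynomial.map (rh (inf_le_left : O ⊓ G.V η ≤ O)) Φ =
    MvPolynomial.map (rh (inf_le_inf_right _ hO : O ⊓ G.V η ≤ W ⊓ G.V η)) (genPoly x G η)

theorem exists_locPoly_free {y : Y} (hy : y ∈ W) {V : Y.Opens} {k : ℕ} {d : Fin k → Γ(X, π ⁻¹ᵁ V)}
    (hyV : y ∈ V) (hd : IsGoodBasis π d) :
    ∃ (O : Y.Opens) (hO : O ≤ W) (Φ : MvPolynomial (Option (Fin r)) Γ(Y, O)), y ∈ O ∧ IsLocPoly x G hO Φ := by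
  refine ⟨W ⊓ V, inf_le_left, uNrm x (inf_le_left : W ⊓ V ≤ W) ^ (G.m / k), ⟨hy, hyV⟩, fun η => ?_⟩
  rw [map_genPoly, map_pow, uNrm_res x hd inf_le_left inf_le_right]
  exact uNrm_pow_congr x hd (G.good η) _ (inf_le_left.trans inf_le_right) inf_le_right _

theorem exists_locPoly_normal [IsLocallyNoetherian Y] [IsReduced Y] [IsFinite π] {y : Y} (hy : y ∈ W)
    [IsDomain (Y.presheaf.stalk y)] [IsIntegrallyClosed (Y.presheaf.stalk y)] :
    ∃ (O : Y.Opens) (hO : O ≤ W) (Φ : MvPolynomial (Option (Fin r)) Γ(Y, O)), y ∈ O ∧ IsLocPoly x G hO Φ := by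
  classical
  obtain ⟨W₀, hW₀, hyW₀, hle, hdom⟩ := exists_domain_nhd (y := y) hy
  obtain ⟨η₀, hη₀, hη₀y⟩ := exists_genericPoint_specializes y
  have hη₀W : η₀ ∈ W₀ := hη₀y.mem_open W₀.2 hyW₀
  obtain ⟨t₀, ht₁, hη₀t⟩ := hW₀.exists_basicOpen_le (V := G.V ⟨η₀, hη₀⟩) ⟨η₀, G.mem ⟨η₀, hη₀⟩⟩ hη₀W
  have ht₀ : t₀ ≠ 0 := by
    rintro rfl
    rw [Scheme.basicOpen_zero] at hη₀t
    exact hη₀t.elim
  set V₀ := Y.basicOpen t₀
  have hV₀ : V₀ ≤ W₀ := Y.basicOpen_le t₀
  set P := uNrm x (hV₀.trans hle) ^ (G.m / G.n ⟨η₀, hη₀⟩)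
  letI := (rh hV₀).toAlgebra
  haveI : IsLocalization.Away t₀ Γ(Y, V₀) := hW₀.isLocalization_basicOpen t₀
  let p := (hW₀.primeIdealOf ⟨y, hyW₀⟩).asIdeal
  letI := Y.presheaf.algebra_section_stalk ⟨y, hyW₀⟩
  haveI := hW₀.isLocalization_stalk ⟨y, hyW₀⟩
  haveI : IsIntegrallyClosed (Localization.AtPrime p) :=
    IsIntegrallyClosed.of_equiv
      (IsLocalization.algEquiv p.primeCompl (Y.presheaf.stalk y) (Localization.AtPrime p)).toRingEquiv
  obtain ⟨t, htp, hta⟩ := exists_common_denominator ht₀ p P.support (fun α => MvPolynomial.coeff α P)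
    fun α _ => isIntegral_uNrm x hW₀ hle ht₀ (G.good ⟨η₀, hη₀⟩) ht₁ _ α
  choose! a ha using hta
  set O := Y.basicOpen t
  have hOW₀ : O ≤ W₀ := Y.basicOpen_le t
  have hyO : y ∈ O := by
    have h : hW₀.primeIdealOf ⟨y, hyW₀⟩ ∈ hW₀.fromSpec ⁻¹ᵁ Y.basicOpen t := by
      rw [hW₀.fromSpec_preimage_basicOpen]; exact htp
    have h' : hW₀.fromSpec (hW₀.primeIdealOf ⟨y, hyW₀⟩) ∈ Y.basicOpen t := h
    rwa [hW₀.fromSpec_primeIdealOf] at h'
  obtain ⟨τ, hτ⟩ := (show IsUnit (rh hOW₀ t) from RingedSpace.isUnit_res_basicOpen Y.toRingedSpace t).exists_right_inv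
  let Φ : MvPolynomial (Option (Fin r)) Γ(Y, O) :=
    ∑ α ∈ P.support, MvPolynomial.monomial α (rh hOW₀ (a α) * τ)
  have hΦ : MvPolynomial.map (rh (inf_le_left : O ⊓ V₀ ≤ O)) Φ =
      MvPolynomial.map (rh (inf_le_right : O ⊓ V₀ ≤ V₀)) P := by
    refine MvPolynomial.ext _ _ fun α => ?_
    simp only [MvPolynomial.coeff_map, Φ, MvPolynomial.coeff_sum, MvPolynomial.coeff_monomial, Finset.sum_ite_eq']
    by_cases hα : α ∈ P.support
    · rw [if_pos hα]
      have h1 := congrArg (rh (inf_le_right : O ⊓ V₀ ≤ V₀)) (ha α hα)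
      change rh _ (rh hV₀ (a α)) = rh _ (rh hV₀ t * MvPolynomial.coeff α P) at h1
      rw [map_mul, rh_rh, rh_rh] at h1
      have h2 := congrArg (rh (inf_le_left : O ⊓ V₀ ≤ O)) hτ
      rw [map_mul, rh_rh, map_one] at h2
      rw [map_mul, rh_rh, h1, mul_right_comm, h2, one_mul]
    · rw [if_neg hα, MvPolynomial.notMem_support_iff.1 hα, map_zero, map_zero]
  refine ⟨O, hOW₀.trans hle, Φ, hyO, fun η => MvPolynomial.ext _ _ fun α => ?_⟩
  refine eq_of_generic fun ξ hξ hξO => ⟨(O ⊓ G.V η) ⊓ V₀, inf_le_left,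
    ⟨hξO, mem_of_nonempty hW₀ ht₀ hξ (hOW₀ hξO.1)⟩, ?_⟩
  simp only [← MvPolynomial.coeff_map, map_rh_rh]
  congr 1
  have e1 := congrArg (MvPolynomial.map (rh (inf_le_inf_right V₀ inf_le_left : (O ⊓ G.V η) ⊓ V₀ ≤ O ⊓ V₀))) hΦ
  rw [map_rh_rh, map_rh_rh] at e1
  rw [e1, map_genPoly, map_pow,
    uNrm_res x (G.good ⟨η₀, hη₀⟩) (hV₀.trans hle) ht₁ (inf_le_right : (O ⊓ G.V η) ⊓ V₀ ≤ V₀)]
  exact uNrm_pow_congr x (G.good ⟨η₀, hη₀⟩) (G.good η) _ (inf_le_right.trans ht₁)
    (inf_le_left.trans inf_le_right) _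

/-- Multipliers carrying all coefficients of the universal norms into the sections over `W`. -/
def extIdeal : Ideal Γ(Y, W) where
  carrier := {h | ∀ α, ∃ g : Γ(Y, W), ∀ η, rh inf_le_left g =
    rh (inf_le_left : W ⊓ G.V η ≤ W) h * MvPolynomial.coeff α (genPoly x G η)}
  add_mem' {a b} ha hb α := by
    obtain ⟨g, hg⟩ := ha α
    obtain ⟨g', hg'⟩ := hb α
    exact ⟨g + g', fun η => by rw [map_add, map_add, add_mul, hg η, hg' η]⟩
  zero_mem' α := ⟨0, fun η => by rw [map_zero, zero_mul]⟩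
  smul_mem' s a ha α := by
    obtain ⟨g, hg⟩ := ha α
    exact ⟨s * g, fun η => by rw [smul_eq_mul, map_mul, map_mul, mul_assoc, hg η]⟩

theorem mem_extIdeal_of_locPoly [IsNoetherian Y] [IsReduced Y] (hW : IsAffineOpen W) {O : Y.Opens} {hO : O ≤ W}
    {Φ : MvPolynomial (Option (Fin r)) Γ(Y, O)} (hΦ : IsLocPoly x G hO Φ) {j : Γ(Y, W)}
    (hj : Y.basicOpen j ≤ O) : ∃ e : ℕ, j ^ e ∈ extIdeal x G := by
  classical
  haveI := hW.isLocalization_basicOpen j
  choose k g hg using fun α =>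
    IsLocalization.Away.surj j (rh hj (MvPolynomial.coeff α Φ) : Γ(Y, Y.basicOpen j))
  haveI : Fintype (genericPoints Y) := finite_genericPoints.fintype
  let S := Finset.univ.biUnion fun η => (genPoly x G η).support
  refine ⟨S.sup k + 1, fun α => ?_⟩
  by_cases hα : α ∈ S
  swap
  · refine ⟨0, fun η => ?_⟩
    rw [MvPolynomial.notMem_support_iff.1 fun h => hα (Finset.mem_biUnion.2 ⟨η, Finset.mem_univ _, h⟩),
      map_zero, mul_zero]
  obtain ⟨l, hl⟩ := Nat.exists_eq_add_of_le (Finset.le_sup (f := k) hα)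
  refine ⟨j ^ (l + 1) * g α, fun η => sub_eq_zero.1 ?_⟩
  set V := W ⊓ G.V η
  have hVW : V ≤ W := inf_le_left
  set d := rh hVW (j ^ (l + 1) * g α) - rh hVW (j ^ (S.sup k + 1)) * MvPolynomial.coeff α (genPoly x G η)
  have hd : d = rh hVW j * (rh hVW (j ^ l * g α) - rh hVW (j ^ S.sup k) * MvPolynomial.coeff α (genPoly x G η)) := by
    simp only [d, map_mul, map_pow]
    ring
  have hO' : Y.basicOpen d ≤ V ⊓ Y.basicOpen j := by
    rw [hd, Scheme.basicOpen_mul]
    refine inf_le_left.trans ?_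
    rw [Scheme.basicOpen_res]
  refine eq_zero_of_basicOpen_le inf_le_left hO' ?_
  have hV' : V ⊓ Y.basicOpen j ≤ O ⊓ G.V η := le_inf (inf_le_right.trans hj) (inf_le_left.trans inf_le_right)
  have e1 := congrArg (fun p => rh hV' (MvPolynomial.coeff α p)) (hΦ η)
  simp only [MvPolynomial.coeff_map, rh_rh] at e1
  have e2 : rh (inf_le_right : V ⊓ Y.basicOpen j ≤ Y.basicOpen j)
      (rh hj (MvPolynomial.coeff α Φ) * rh (Y.basicOpen_le j) j ^ k α) =
      rh (inf_le_right : V ⊓ Y.basicOpen j ≤ Y.basicOpen j) (rh (Y.basicOpen_le j) (g α)) :=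
    congrArg _ (hg α)
  simp only [map_mul, map_pow, rh_rh] at e2
  rw [map_sub, sub_eq_zero]
  simp only [map_mul, map_pow, rh_rh, ← e2, e1, hl]
  ring

theorem exists_pow_le_extIdeal [IsNoetherian Y] [IsReduced Y] [IsFinite π] (hW : IsAffineOpen W)
    (J : Ideal Γ(Y, W))
    (H : ∀ j ∈ J, ∀ y, y ∈ Y.basicOpen j → (IsDomain (Y.presheaf.stalk y) ∧ IsIntegrallyClosed (Y.presheaf.stalk y)) ∨
      ∃ (V : Y.Opens) (k : ℕ) (d : Fin k → Γ(X, π ⁻¹ᵁ V)), y ∈ V ∧ IsGoodBasis π d) :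
    ∃ M, J ^ M ≤ extIdeal x G := by
  haveI : IsNoetherianRing Γ(Y, W) := IsLocallyNoetherian.component_noetherian ⟨W, hW⟩
  refine Ideal.exists_pow_le_of_le_radical_of_fg (fun j hj => ?_) (IsNoetherian.noetherian J)
  rw [Ideal.radical_eq_sInf, Submodule.mem_sInf]
  rintro p ⟨hp, hpp⟩
  by_contra hjp
  haveI := hpp
  let y := hW.fromSpec ⟨p, hpp⟩
  have key : ∀ f : Γ(Y, W), y ∈ Y.basicOpen f ↔ f ∉ p := fun f => by
    show ⟨p, hpp⟩ ∈ hW.fromSpec ⁻¹ᵁ Y.basicOpen f ↔ _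
    rw [hW.fromSpec_preimage_basicOpen]
    rfl
  have hyj := (key j).2 hjp
  have hyW : y ∈ W := Y.basicOpen_le j hyj
  obtain ⟨O, hO, Φ, hyO, hΦ⟩ : ∃ (O : Y.Opens) (hO : O ≤ W) (Φ : MvPolynomial (Option (Fin r)) Γ(Y, O)),
      y ∈ O ∧ IsLocPoly x G hO Φ := by
    rcases H j hj y hyj with ⟨h1, h2⟩ | ⟨V, k, d, hyV, hd⟩
    · exact exists_locPoly_normal x G hyW
    · exact exists_locPoly_free x G hyW hyV hd
  obtain ⟨f, hf, hyf⟩ := hW.exists_basicOpen_le (V := O) ⟨y, hyO⟩ hyW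
  obtain ⟨e, he⟩ := mem_extIdeal_of_locPoly x G hW hΦ hf
  exact (key f).1 hyf (hpp.mem_of_pow_mem e (hp he))

/-- Elements congruent to functions from the target modulo a deep power of the ideal have a norm. -/
theorem exists_norm_of_congr [IsNoetherian Y] [IsReduced Y] {J : Ideal Γ(Y, W)} {M : ℕ}
    (hM : J ^ M ≤ extIdeal x G) (a : Γ(Y, W)) (v : Fin r → Γ(Y, W)) (hv : ∀ i, v i ∈ J ^ (M + 1)) :
    ∃ c, IsNorm π G.m W (π.app W a + ∑ i, π.app W (v i) * x i) c ∧ c - a ^ G.m ∈ J := by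
  classical
  haveI : Fintype (genericPoints Y) := finite_genericPoints.fintype
  let w : Option (Fin r) → Γ(Y, W) := fun o => o.elim a v
  let w₀ : Option (Fin r) → Γ(Y, W) := fun o => o.elim a 0
  let mon : (Option (Fin r) → Γ(Y, W)) → (Option (Fin r) →₀ ℕ) → Γ(Y, W) := fun f α =>
    ∏ i ∈ α.support, f i ^ α i
  have key : ∀ α, ∃ g ∈ J, ∀ η, rh inf_le_left g =
      rh (inf_le_left : W ⊓ G.V η ≤ W) (mon w α - mon w₀ α) * MvPolynomial.coeff α (genPoly x G η) := by
    intro α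
    by_cases hα : ∃ i, some i ∈ α.support
    · obtain ⟨i, hi⟩ := hα
      have hne : α (some i) ≠ 0 := Finsupp.mem_support_iff.1 hi
      have h0 : mon w₀ α = 0 := Finset.prod_eq_zero hi (zero_pow hne)
      have h1 : mon w α ∈ J ^ M * J := by
        rw [← pow_succ]
        exact Ideal.prod_mem _ hi (Ideal.pow_mem_of_mem _ (hv i) _ (Nat.pos_of_ne_zero hne))
      rw [h0, sub_zero]
      refine Submodule.mul_induction_on h1 (fun h hh z hz => ?_) fun z z' hz hz' => ?_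
      · obtain ⟨g, hg⟩ := hM hh α
        exact ⟨g * z, J.mul_mem_left _ hz, fun η => by rw [map_mul, map_mul, hg η]; ring⟩
      · obtain ⟨g, hgJ, hg⟩ := hz
        obtain ⟨g', hgJ', hg'⟩ := hz'
        exact ⟨g + g', J.add_mem hgJ hgJ', fun η => by rw [map_add, map_add, add_mul, hg η, hg' η]⟩
    · refine ⟨0, J.zero_mem, fun η => ?_⟩
      have h1 : mon w α = mon w₀ α := Finset.prod_congr rfl fun o ho => by
        cases o with
        | none => rfl
        | some i => exact absurd ⟨i, ho⟩ hα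
      rw [h1, sub_self, map_zero, zero_mul]
  choose g hgJ hg using key
  let S := Finset.univ.biUnion fun η => (genPoly x G η).support
  refine ⟨a ^ G.m + ∑ α ∈ S, g α, ?_, by
    rw [add_sub_cancel_left]
    exact Ideal.sum_mem _ fun α _ => hgJ α⟩
  have hη : ∀ η, rh (inf_le_left : W ⊓ G.V η ≤ W) (a ^ G.m + ∑ α ∈ S, g α) =
      nrmHom π (W ⊓ G.V η)
        (ro (pre (π := π) inf_le_left) (π.app W a + ∑ i, π.app W (v i) * x i)) ^ (G.m / G.n η) := by
    intro η
    have hev : ∀ f : Option (Fin r) → Γ(Y, W),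
        MvPolynomial.eval (fun o => rh (inf_le_left : W ⊓ G.V η ≤ W) (f o)) (genPoly x G η) =
          ∑ α ∈ S, MvPolynomial.coeff α (genPoly x G η) * rh inf_le_left (mon f α) := fun f => by
      rw [MvPolynomial.eval_eq, Finset.sum_subset (s₂ := S)
        (fun α hα => Finset.mem_biUnion.2 ⟨η, Finset.mem_univ _, hα⟩)
        (fun α _ hα => by rw [MvPolynomial.notMem_support_iff.1 hα, zero_mul])]
      simp only [mon, map_prod, map_pow]
    have e1 : rh (inf_le_left : W ⊓ G.V η ≤ W) (∑ α ∈ S, g α) =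
        MvPolynomial.eval (fun o => rh inf_le_left (w o)) (genPoly x G η) -
          MvPolynomial.eval (fun o => rh inf_le_left (w₀ o)) (genPoly x G η) := by
      rw [hev, hev, map_sum, ← Finset.sum_sub_distrib]
      exact Finset.sum_congr rfl fun α _ => by rw [hg α η, map_sub]; ring
    have e2 : ∀ f : Option (Fin r) → Γ(Y, W),
        MvPolynomial.eval (fun o => rh (inf_le_left : W ⊓ G.V η ≤ W) (f o)) (genPoly x G η) =
          nrmHom π (W ⊓ G.V η)
            (ro (pre (π := π) inf_le_left) (π.app W (f none) + ∑ i, π.app W (f (some i)) * x i)) ^ (G.m / G.n η) := by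
      intro f
      rw [genPoly, map_pow, uNrm_eval x (G.good η) inf_le_left inf_le_right]
      simp only [map_add, map_sum, map_mul, rh_eq_ro, app_ro]
    have e3 : rh (inf_le_left : W ⊓ G.V η ≤ W) (a ^ G.m) =
        MvPolynomial.eval (fun o => rh inf_le_left (w₀ o)) (genPoly x G η) := by
      rw [e2]
      simp only [w₀, Option.elim, Pi.zero_apply, map_zero, zero_mul, Finset.sum_const_zero, add_zero]
      rw [← app_ro, nrmHom_app (G.good η) inf_le_right, ← pow_mul, map_pow]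
      rcases ((W ⊓ G.V η : Y.Opens) : Set Y).eq_empty_or_nonempty with he | he
      · haveI : Subsingleton Γ(Y, W ⊓ G.V η) := by
          rw [show W ⊓ G.V η = ⊥ from Opens.ext he]
          infer_instance
        exact Subsingleton.elim _ _
      · rw [Nat.mul_div_cancel' (G.dvd _ _ _ (G.good η) ⟨_, G.mem η⟩).2]
    rw [map_add, e1, e3, add_sub_cancel, e2]
    rfl
  intro V hV k d hd
  refine eq_of_generic fun ξ hξ hξV => ⟨V ⊓ G.V ⟨ξ, hξ⟩, inf_le_left, ⟨hξV, G.mem ⟨ξ, hξ⟩⟩, ?_⟩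
  have h1 := congrArg (rh (inf_le_inf_right _ hV : V ⊓ G.V ⟨ξ, hξ⟩ ≤ W ⊓ G.V ⟨ξ, hξ⟩)) (hη ⟨ξ, hξ⟩)
  rw [rh_rh, map_pow, rh_eq_ro _ (nrmHom π _ _), nrmHom_ro (G.good _) inf_le_right, ro_ro] at h1
  rw [← rh_eq_ro hV, rh_rh, h1, map_pow, rh_eq_ro _ (nrmHom π _ _), nrmHom_ro hd le_rfl inf_le_left, ro_ro]
  exact nrm_pow_congr (G.good _) hd inf_le_right inf_le_left _ _

end

end Groth.L07.RelAmp
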