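import Groth.Agent.L07.RelAmp.Congr
import Mathlib.AlgebraicGeometry.Morphisms.QuasiCompact

/-!
Sections of powers of an invertible module as families of functions, and lifts from a closed subscheme.
-/

set_option autoImplicit false
set_option backward.isDefEq.respectTransparency false
set_option backward.isDefEq.respectTransparency.types false
set_option linter.style.haveILetI false
universe u

open CategoryTheory CategoryTheory.Limits AlgebraicGeometry TopologicalSpace Opposite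

noncomputable section

namespace Groth.L07.RelAmp

open Groth.L18.Frame (ro ro_ro ro_self ro_mul)
open Groth.L18.NormFree (app_ro)

variable {X : Scheme.{u}} {ι : Type} {U : ι → X.Opens}

/-- Families of functions on the members of a cover. -/
abbrev Tup (U : ι → X.Opens) : Type u := ∀ i, Γ(X, U i)

/-- Families transforming by the `d`-th power of the transition functions. -/
def IsTup (u : ∀ i l, Γ(X, U i ⊓ U l)) (d : ℕ) (b : Tup U) : Prop :=
  ∀ i l, rh (inf_le_left : U i ⊓ U l ≤ U i) (b i) = u i l ^ d * rh (inf_le_right : U i ⊓ U l ≤ U l) (b l)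

variable {u : ∀ i l, Γ(X, U i ⊓ U l)}

theorem IsTup.zero (d : ℕ) : IsTup u d (0 : Tup U) := fun i l => by simp

theorem IsTup.one : IsTup u 0 (1 : Tup U) := fun i l => by simp

theorem IsTup.add {d : ℕ} {a b : Tup U} (ha : IsTup u d a) (hb : IsTup u d b) : IsTup u d (a + b) := fun i l => by
  simp only [Pi.add_apply, map_add, ha i l, hb i l, mul_add]

theorem IsTup.mul {d d' : ℕ} {a b : Tup U} (ha : IsTup u d a) (hb : IsTup u d' b) :
    IsTup u (d + d') (a * b) := fun i l => by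
  simp only [Pi.mul_apply, map_mul, ha i l, hb i l, pow_add]
  ring

theorem IsTup.pow {d : ℕ} {a : Tup U} (ha : IsTup u d a) : ∀ n : ℕ, IsTup u (n * d) (a ^ n)
  | 0 => by simpa using IsTup.one
  | n + 1 => by rw [pow_succ, Nat.succ_mul]; exact (ha.pow n).mul ha

theorem IsTup.congr {d d' : ℕ} {a : Tup U} (ha : IsTup u d a) (h : d = d') : IsTup u d' a := h ▸ ha

theorem IsTup.prod {σ : Type*} (s : Finset σ) {a : σ → Tup U} (ha : ∀ k ∈ s, IsTup u 1 (a k)) :
    IsTup u s.card (∏ k ∈ s, a k) := by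
  classical
  induction s using Finset.induction_on with
  | empty => simpa using IsTup.one
  | @insert k s hk ih =>
    rw [Finset.prod_insert hk, Finset.card_insert_of_notMem hk, Nat.add_comm]
    exact (ha k (Finset.mem_insert_self k s)).mul (ih fun k' hk' => ha k' (Finset.mem_insert_of_mem hk'))

theorem IsTup.sum {σ : Type*} (s : Finset σ) {d : ℕ} {a : σ → Tup U} (ha : ∀ k ∈ s, IsTup u d (a k)) :
    IsTup u d (∑ k ∈ s, a k) :=
  Finset.sum_induction _ (IsTup u d) (fun _ _ h h' => h.add h') (IsTup.zero d) ha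

/-- The non-vanishing locus. -/
def loc (b : Tup U) : X.Opens := ⨆ i, X.basicOpen (b i)

theorem loc_inf (hu : ∀ i l, IsUnit (u i l)) {d : ℕ} {b : Tup U} (hb : IsTup u d b) (i : ι) :
    loc b ⊓ U i = X.basicOpen (b i) := by
  refine le_antisymm (fun x ⟨hx, hxi⟩ => ?_) (le_inf (le_iSup (fun l => X.basicOpen (b l)) i) (X.basicOpen_le _))
  obtain ⟨l, hl⟩ := Opens.mem_iSup.1 hx
  have h := congrArg X.basicOpen (hb i l)
  rw [Scheme.basicOpen_res, Scheme.basicOpen_mul, X.basicOpen_of_isUnit ((hu i l).pow d), Scheme.basicOpen_res] at h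
  exact (h.ge ⟨⟨hxi, X.basicOpen_le _ hl⟩, ⟨hxi, X.basicOpen_le _ hl⟩, hl⟩).2

variable {T : Scheme.{u}} (j : T ⟶ X)

/-- Restriction of families to a subscheme. -/
def resT : Tup U →+* ∀ i, Γ(T, j ⁻¹ᵁ U i) :=
  RingHom.pi fun i => (j.app (U i)).hom.comp (Pi.evalRingHom _ i)

theorem resT_apply (b : Tup U) (i : ι) : resT j b i = j.app (U i) (b i) := rfl

/-- Families on the subscheme transforming by powers of the restricted transition functions. -/
def IsTupT (u : ∀ i l, Γ(X, U i ⊓ U l)) (d : ℕ) (z : ∀ i, Γ(T, j ⁻¹ᵁ U i)) : Prop :=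
  ∀ i l, rh (pre (π := j) (inf_le_left : U i ⊓ U l ≤ U i)) (z i) =
    j.app (U i ⊓ U l) (u i l) ^ d * rh (pre (π := j) (inf_le_right : U i ⊓ U l ≤ U l)) (z l)

theorem IsTupT.pow {d : ℕ} {z : ∀ i, Γ(T, j ⁻¹ᵁ U i)} (hz : IsTupT j u d z) (n : ℕ) :
    IsTupT j u (n * d) (z ^ n) := fun i l => by
  simp only [Pi.pow_apply, map_pow, hz i l, mul_pow, ← pow_mul, Nat.mul_comm n d]

theorem isUnit_app {U' V : X.Opens} (h : V ≤ U') (a : Γ(X, U')) (hV : V ≤ X.basicOpen a) :
    IsUnit (rh h a) := by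
  have h0 : IsUnit (rh (X.basicOpen_le a) a) := RingedSpace.isUnit_res_basicOpen X.toRingedSpace a
  have h1 := h0.map (rh hV)
  rwa [rh_rh] at h1

theorem app_rh {U' V : X.Opens} (h : V ≤ U') (a : Γ(X, U')) :
    j.app V (rh h a) = rh (pre (π := j) h) (j.app U' a) := app_ro h a

variable [Finite ι]

theorem exists_lift_mul_pow [X.IsSeparated] [IsClosedImmersion j] (hU : ∀ i, IsAffineOpen (U i))
    (hcov : ∀ x, ∃ i, x ∈ U i) (hu : ∀ i l, IsUnit (u i l)) {f : Tup U} (hf : IsTup u 1 f)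
    (hG : IsAffineOpen (loc f)) {D : ℕ} {z : ∀ i, Γ(T, j ⁻¹ᵁ U i)} (hz : IsTupT j u D z) :
    ∃ K, ∀ K', K ≤ K' → ∃ g : Tup U, IsTup u (D + K') g ∧ resT j g = z * resT j f ^ K' := by
  classical
  haveI := Fintype.ofFinite ι
  set G := loc f
  have hGi : ∀ i, X.basicOpen (f i) ≤ G := fun i => le_iSup (fun l => X.basicOpen (f l)) i
  have hDU : ∀ i, X.basicOpen (f i) ≤ U i := fun i => X.basicOpen_le _
  let w : ∀ i, Γ(T, j ⁻¹ᵁ X.basicOpen (f i)) := fun i => j.app _ (rh (hDU i) (f i))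
  have hw : ∀ i, IsUnit (w i) := fun i => (isUnit_app (hDU i) (f i) le_rfl).map (j.app _).hom
  choose v hv using fun i => (hw i).exists_right_inv
  obtain ⟨q, hq⟩ : ∃ q : ∀ i, Γ(T, j ⁻¹ᵁ X.basicOpen (f i)),
      ∀ i, q i * w i ^ D = rh (pre (π := j) (hDU i)) (z i) :=
    ⟨fun i => rh (pre (π := j) (hDU i)) (z i) * v i ^ D, fun i => by
      simp only [mul_assoc, ← mul_pow, mul_comm (v i), hv i, one_pow, mul_one]⟩
  obtain ⟨qG, hqG⟩ : ∃ qG : Γ(T, j ⁻¹ᵁ G), ∀ i, rh (pre (π := j) (hGi i)) qG = q i := by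
    refine (T.sheaf.existsUnique_gluing' (fun i => j ⁻¹ᵁ X.basicOpen (f i)) (j ⁻¹ᵁ G)
      (fun i => homOfLE (pre (π := j) (hGi i))) (fun t ht => ?_) q fun i l => ?_).exists
    · obtain ⟨i, hi⟩ := Opens.mem_iSup.1 (show j t ∈ loc f from ht)
      exact Opens.mem_iSup.2 ⟨i, hi⟩
    show rh (inf_le_left : j ⁻¹ᵁ X.basicOpen (f i) ⊓ j ⁻¹ᵁ X.basicOpen (f l) ≤ _) (q i) = rh inf_le_right (q l)
    set O := X.basicOpen (f i) ⊓ X.basicOpen (f l)
    have hO : O ≤ U i ⊓ U l := inf_le_inf (hDU i) (hDU l)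
    have hwO : rh (pre (π := j) (inf_le_left : O ≤ _)) (w i) =
        j.app O (rh hO (u i l)) * rh (pre (π := j) (inf_le_right : O ≤ _)) (w l) := by
      simp only [w]
      rw [← app_rh j (inf_le_left : O ≤ X.basicOpen (f i)), ← app_rh j (inf_le_right : O ≤ X.basicOpen (f l)),
        rh_rh, rh_rh, ← map_mul]
      congr 1
      have h1 := congrArg (rh hO) (hf i l)
      simp only [pow_one, map_mul, rh_rh] at h1
      exact h1
    refine ((hw i).map (rh (pre (π := j) (inf_le_left : O ≤ _))) |>.pow D).mul_left_inj.1 ?_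
    show rh _ (q i) * rh _ (w i) ^ D = rh _ (q l) * rh _ (w i) ^ D
    conv_rhs => rw [hwO, mul_pow, mul_left_comm]
    have e1 := congrArg (rh (pre (π := j) (inf_le_left : O ≤ _))) (hq i)
    have e2 := congrArg (rh (pre (π := j) (inf_le_right : O ≤ _))) (hq l)
    simp only [map_mul, map_pow, rh_rh] at e1 e2
    rw [e1, e2]
    have h3 := congrArg (rh (pre (π := j) hO)) (hz i l)
    simp only [map_mul, map_pow, rh_rh] at h3
    rw [h3]
    simp only [app_rh, rh_rh]
    rfl
  obtain ⟨h, rfl⟩ := j.app_surjective G hG qG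
  choose k g0 hg0 using fun i => haveI := (hU i).isLocalization_basicOpen (f i)
    IsLocalization.Away.surj (f i) (rh (hGi i) h * rh (hDU i) (f i) ^ D : Γ(X, X.basicOpen (f i)))
  set K0 := Finset.univ.sup k
  obtain ⟨g1, hg1⟩ : ∃ g1 : Tup U, ∀ i, rh (hDU i) (g1 i) = rh (hGi i) h * rh (hDU i) (f i) ^ (D + K0) := by
    refine ⟨fun i => f i ^ (K0 - k i) * g0 i, fun i => ?_⟩
    have h0 : rh (hDU i) (g0 i) = rh (hGi i) h * rh (hDU i) (f i) ^ D * rh (hDU i) (f i) ^ k i := (hg0 i).symm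
    simp only [map_mul, map_pow, h0]
    calc _ = rh (hGi i) h * (rh (hDU i) (f i) ^ D * rh (hDU i) (f i) ^ ((K0 - k i) + k i)) := by
            rw [pow_add]; ring
      _ = _ := by rw [Nat.sub_add_cancel (Finset.le_sup (Finset.mem_univ i)), ← pow_add]
  have hδ : ∀ il : ι × ι, ∃ n, rh (inf_le_left : U il.1 ⊓ U il.2 ≤ _) (f il.1) ^ n *
      (rh (inf_le_left : U il.1 ⊓ U il.2 ≤ _) (g1 il.1) -
        u il.1 il.2 ^ (D + K0) * rh (inf_le_right : U il.1 ⊓ U il.2 ≤ _) (g1 il.2)) = 0 := by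
    rintro ⟨i, l⟩
    refine exists_pow_mul_eq_zero_of_res_basicOpen_eq_zero_of_isCompact X ((hU i).inf (hU l)).isCompact _ _ ?_
    set O := X.basicOpen (rh (inf_le_left : U i ⊓ U l ≤ _) (f i))
    have hOi : O ≤ X.basicOpen (f i) := by rw [show O = _ from Scheme.basicOpen_res X (f i) _]; exact inf_le_right
    have hOl : O ≤ X.basicOpen (f l) := by
      intro x hx
      have h1 : x ∈ U i ⊓ U l := X.basicOpen_le _ hx
      exact (loc_inf hu hf l).le ⟨(le_iSup (fun l => X.basicOpen (f l)) i) (hOi hx), h1.2⟩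
    show rh (X.basicOpen_le _) _ = 0
    have e1 := congrArg (rh hOi) (hg1 i)
    have e2 := congrArg (rh hOl) (hg1 l)
    have e3 := congrArg (rh (X.basicOpen_le (rh (inf_le_left : U i ⊓ U l ≤ _) (f i)))) (hf i l)
    simp only [map_mul, map_pow, rh_rh, pow_one] at e1 e2 e3
    rw [map_sub, sub_eq_zero, map_mul, map_pow, rh_rh, rh_rh]
    refine e1.trans ?_
    rw [show rh _ (f i) = _ from e3, mul_pow, mul_left_comm]
    exact congrArg (_ * ·) e2.symm
  have hε : ∀ i, ∃ n, j.app (U i) (f i) ^ n * (j.app (U i) (g1 i) - z i * j.app (U i) (f i) ^ K0) = 0 := by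
    intro i
    refine exists_pow_mul_eq_zero_of_res_basicOpen_eq_zero_of_isCompact T
      ((hU i).preimage j).isCompact _ _ ?_
    have hle : T.basicOpen (j.app (U i) (f i)) ≤ j ⁻¹ᵁ X.basicOpen (f i) := (Scheme.preimage_basicOpen j (f i)).ge
    show rh (T.basicOpen_le _) _ = 0
    have e1 : rh (pre (π := j) (hDU i)) (j.app (U i) (g1 i)) = q i * w i ^ (D + K0) := by
      rw [← app_rh j (hDU i), hg1, map_mul, map_pow, app_rh j (hGi i) h, hqG i]
    have e2 : rh (pre (π := j) (hDU i)) (j.app (U i) (f i)) = w i := (app_rh j _ _).symm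
    rw [← rh_rh (pre (π := j) (hDU i)) hle, map_sub, e1, map_mul, map_pow, e2, ← hq i, mul_assoc, ← pow_add,
      sub_self, map_zero]
  choose n hn using hδ
  choose n' hn' using hε
  refine ⟨K0 + Finset.univ.sup n + Finset.univ.sup n', fun K' hK' => ⟨f ^ (K' - K0) * g1, fun i l => ?_, ?_⟩⟩
  · obtain ⟨e, he⟩ := Nat.exists_eq_add_of_le
      (show n (i, l) ≤ K' - K0 by have := Finset.le_sup (f := n) (Finset.mem_univ (i, l)); omega)
    have h1 : D + K' = (K' - K0) + (D + K0) := by omega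
    rw [h1, pow_add, Pi.mul_apply, Pi.mul_apply, Pi.pow_apply, Pi.pow_apply, map_mul, map_mul, map_pow, map_pow,
      mul_mul_mul_comm (u i l ^ (K' - K0)), ← mul_pow, ← show rh (inf_le_left : U i ⊓ U l ≤ U i) (f i) = u i l * rh (inf_le_right : U i ⊓ U l ≤ U l) (f l) from
        (hf i l).trans (by rw [pow_one]), ← sub_eq_zero, ← mul_sub, he, pow_add,
      mul_right_comm (rh inf_le_left (f i) ^ n (i, l)), hn (i, l), zero_mul]
  · funext i
    obtain ⟨e, he⟩ := Nat.exists_eq_add_of_le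
      (show n' i ≤ K' - K0 by have := Finset.le_sup (f := n') (Finset.mem_univ i); omega)
    rw [resT_apply, Pi.mul_apply, Pi.pow_apply, Pi.mul_apply, Pi.pow_apply, resT_apply, map_mul, map_pow,
      show K' = (K' - K0) + K0 from (Nat.sub_add_cancel (by omega)).symm, pow_add, Nat.add_sub_cancel,
      mul_left_comm (z i), ← sub_eq_zero, ← mul_sub, he, pow_add,
      mul_right_comm (j.app (U i) (f i) ^ n' i), hn' i, zero_mul]

end Groth.L07.RelAmp
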